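import Cfsg.Agent.GTwoCent.Split
import Cfsg.Agent.GWDihedral.Main
import Cfsg.Agent.GWDihedral.Consumers.QGroup.Kernel
import Cfsg.Agent.GWDihedral.Consumers.QGroup.Outer
import Cfsg.Agent.GWDihedral.Consumers.QGroup.Action

/-!
# The factors

Each normal closure is either perfect, hence a `SL(2, q)`, or the quaternion group of order eight.
-/

set_option autoImplicit false
set_option linter.style.haveILetI false
set_option linter.unusedSectionVars false

namespace Cfsg.Lib.GTwoCent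

open Subgroup
open Cfsg.Lib.GTwoType Cfsg.Lib.GTwoType.Mdl
open scoped commutatorElement

universe v

theorem exists_center_congr {A B : Type*} [Group A] [Group B] (e : A ≃* B) :
    Nonempty (A ⧸ center A ≃* B ⧸ center B) := by
  refine ⟨QuotientGroup.congr (center A) (center B) e ?_⟩
  ext b
  simp only [Subgroup.mem_map, mem_center_iff, MonoidHom.coe_coe]
  constructor
  · rintro ⟨x, hx, rfl⟩ g
    obtain ⟨g, rfl⟩ := e.surjective g
    rw [← map_mul, ← map_mul, hx g]
  · intro hb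
    refine ⟨e.symm b, fun g => e.injective ?_, e.apply_symm_apply b⟩
    rw [map_mul, map_mul, e.apply_symm_apply, hb]

namespace Core

variable {H : Type v} [Group H] [Finite H] {a : ℕ} (c : Core H a)

/-- A factor: a normal `SL(2, q)` between the closure and the centraliser of the other closure. -/
structure Side (L : Subgroup H) : Prop where
  normal : L.Normal
  le_cent : L ≤ centralizer (c.flip.lift : Set H)
  lift_le : c.lift ≤ L
  inter : ∀ q, c.ι q ∈ L → q ∈ Q1 a
  sl : ∃ (F : Type) (_ : Field F) (_ : Fintype F), Odd (Fintype.card F) ∧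
    Nonempty (↥L ≃* Matrix.SpecialLinearGroup (Fin 2) F)
  derived : L ≤ commutator H
  noTwo : ∀ M : Subgroup L, M.index ≠ 2
  inner : ∀ h k : H, ∃ l ∈ L, ⁅h, k⁆ * l⁻¹ ∈ centralizer (c.lift : Set H)

/-- The perfect case. -/
def Perf : Prop := ⁅c.lift, c.lift⁆ = c.lift

/-- The solvable case. -/
def Solv : Prop := c.lift = (Q1 a).map c.ι ∧ a = 2

theorem commutator_lift_le {x y : H} (hx : x ∈ c.lift) (hy : y ∈ c.flip.lift) :
    ⁅x, y⁆ ∈ zpowers (c.ι (t a)) :=
  c.lift_inf_le (Subgroup.commutator_le_inf c.lift c.flip.lift (commutator_mem_commutator hx hy))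

theorem t_mem_lift : c.ι (t a) ∈ c.lift := c.mem_lift (diag_mem _)

theorem root_of (c : Core H a) {q : Mdl (2 ^ a)} (hq : q ∈ Q1 a) (h1 : q ≠ 1) (ht : q ≠ t a) :
    ∃ j : ℕ, q ^ j * q ^ j = t a := by
  haveI : NeZero (2 ^ a) := ⟨by positivity⟩
  obtain ⟨i, hi⟩ := c.S.2 ⟨_, c.toTyped.ι_mem q⟩
  have hi' : q ^ 2 ^ i = 1 := c.toTyped.ι_inj (by
    rw [map_pow, map_one]; exact congrArg Subtype.val hi)
  clear hi
  induction i generalizing q with
  | zero => exact absurd (by simpa using hi') h1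
  | succ i ih =>
    by_cases hs : q * q = t a
    · exact ⟨1, by simpa using hs⟩
    · by_cases h2 : q * q = 1
      · exact ((Q1_invol c.ha hq h2).elim h1 ht).elim
      · obtain ⟨j, hj⟩ := ih (mul_mem hq hq) h2 hs (by rw [← pow_two, ← pow_mul, ← pow_succ']; exact hi')
        exact ⟨2 * j, by rw [pow_mul, pow_two]; exact hj⟩

/-- Roots of `t` in the two quaternion groups are fused in pairs. -/
theorem pair_fused {p p' y y' : Mdl (2 ^ a)} (hp : p ∈ Q1 a) (hp' : p' ∈ Q1 a) (hy : y ∈ Q2 a) (hy' : y' ∈ Q2 a)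
    (hp2 : p * p = t a) (hp'2 : p' * p' = t a) (hy2 : y * y = t a) (hy'2 : y' * y' = t a) :
    ∃ g ∈ c.K, (g * c.ι p * g⁻¹ = c.ι p' ∨ g * c.ι p * g⁻¹ = c.ι p' * c.ι (t a)) ∧
      (g * c.ι y * g⁻¹ = c.ι y' ∨ g * c.ι y * g⁻¹ = c.ι y' * c.ι (t a)) := by
  have mixed : ∀ {p y : Mdl (2 ^ a)}, p ∈ Q1 a → y ∈ Q2 a → p * p = t a → y * y = t a →
      p * y * (p * y) = 1 ∧ p * y ≠ 1 ∧ p * y ≠ t a ∧ p * y ∈ M0 (2 ^ a) := by
    intro p y hp hy hp2 hy2
    have hnot : p ∉ Q2 a := fun h => by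
      rcases inter_Q c.ha hp h with rfl | rfl
      · exact t_ne_one c.ha ((one_mul (1 : Mdl (2 ^ a))).symm.trans hp2).symm
      · exact t_ne_one c.ha (tt.symm.trans hp2).symm
    refine ⟨?_, fun e => hnot ?_, fun e => hnot ?_, mul_mem (Q1_le c.two_le hp) (Q2_le c.two_le hy)⟩
    · rw [mul_assoc, ← mul_assoc y, ← comm_Q hp hy, mul_assoc, hy2, ← mul_assoc, hp2, tt]
    · rw [eq_inv_of_mul_eq_one_left e]; exact inv_mem hy
    · rw [eq_mul_inv_of_mul_eq e]
      exact mul_mem (by rw [mem_Q2, flip_t]; exact diag_mem _) (inv_mem hy)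
  obtain ⟨hk, hk1, hkt, hkM⟩ := mixed hp hy hp2 hy2
  obtain ⟨hl, hl1, hlt, hlM⟩ := mixed hp' hy' hp'2 hy'2
  obtain ⟨g, hg, he⟩ := c.fused_pair hk hk1 hkt hkM hl hl1 hlt hlM
  refine ⟨g, hg, ?_⟩
  have hn : (c.lift).Normal := inferInstance
  have hn' : (c.flip.lift).Normal := inferInstance
  rw [map_mul, map_mul] at he
  have hz : (c.ι p')⁻¹ * (g * c.ι p * g⁻¹) = c.ι y' * (g * c.ι y * g⁻¹)⁻¹ := by
    calc (c.ι p')⁻¹ * (g * c.ι p * g⁻¹)
        = (c.ι p')⁻¹ * ((g * (c.ι p * c.ι y) * g⁻¹) * (g * c.ι y * g⁻¹)⁻¹) := by group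
      _ = c.ι y' * (g * c.ι y * g⁻¹)⁻¹ := by rw [he, ← mul_assoc, inv_mul_cancel_left]
  have hm1 : (c.ι p')⁻¹ * (g * c.ι p * g⁻¹) ∈ c.lift := mul_mem (inv_mem (c.mem_lift hp')) (hn.conj_mem _ (c.mem_lift hp) g)
  have hm2 : (c.ι p')⁻¹ * (g * c.ι p * g⁻¹) ∈ c.flip.lift :=
    hz ▸ mul_mem (c.mem_flip_lift hy') (inv_mem (hn'.conj_mem _ (c.mem_flip_lift hy) g))
  rcases c.zpowers_t.1 (c.lift_inf_le ⟨hm1, hm2⟩) with e | e
  · refine ⟨Or.inl (inv_mul_eq_one.1 e).symm, Or.inl ?_⟩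
    rw [e] at hz
    exact (mul_inv_eq_one.1 hz.symm).symm
  · refine ⟨Or.inr (inv_mul_eq_iff_eq_mul.1 e), Or.inr ?_⟩
    rw [e] at hz
    have h2 : (c.ι (t a))⁻¹ = c.ι (t a) := inv_eq_of_mul_eq_one_left (by rw [← map_mul, tt, map_one])
    calc g * c.ι y * g⁻¹ = (c.ι y' * (g * c.ι y * g⁻¹)⁻¹)⁻¹ * c.ι y' := by group
      _ = c.ι y' * c.ι (t a) := by rw [← hz, h2, c.comm_t]

/-- A root of `t` in the second group. -/
theorem exists_root2 : ∃ y ∈ Q2 a, y * y = t a := by
  refine ⟨_, g2_mem, ?_⟩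
  rw [← map_mul, show g1 a * g1 a = t a by ext <;> simp [mul_def, ax, sg, hf_neg' a], flip_t]

/-- A normal subgroup with a root of `t` from the closure contains it. -/
theorem lift_le_of_root {R : Subgroup H} (hR : R.Normal) {p : Mdl (2 ^ a)} (hp : p ∈ Q1 a)
    (hp2 : p * p = t a) (hpR : c.ι p ∈ R) : c.lift ≤ R := by
  have hT : c.ι (t a) ∈ R := by rw [← hp2, map_mul]; exact mul_mem hpR hpR
  obtain ⟨y, hy, hy2⟩ := exists_root2 (a := a)
  have hroot : ∀ q ∈ Q1 a, q * q = t a → c.ι q ∈ R := fun q hq hq2 => by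
    obtain ⟨g, -, h, -⟩ := c.pair_fused hp hq hy hy hp2 hq2 hy2 hy2
    rcases h with e | e
    · exact e ▸ hR.conj_mem _ hpR g
    · have := mul_mem (hR.conj_mem _ hpR g) (inv_mem hT)
      rwa [e, mul_inv_cancel_right] at this
  refine normalClosure_le_normal ?_
  rintro _ ⟨q, hq, rfl⟩
  rcases Q1_gen hq with h | ⟨r, s, hr, hs, hr2, hs2, rfl⟩
  · exact hroot q hq h
  · rw [map_mul]; exact mul_mem (hroot r hr hr2) (hroot s hs hs2)

theorem lift_sylow : ∃ W : Sylow 2 ↥c.lift, ((W : Subgroup ↥c.lift)).map c.lift.subtype = (Q1 a).map c.ι := by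
  obtain ⟨W, hW⟩ := Cfsg.Lib.GWD.sylow_of_inter c.S c.lift
  refine ⟨W, hW.trans (le_antisymm ?_ ?_)⟩
  · rintro x ⟨hxS, hx⟩
    obtain ⟨q, rfl⟩ := c.toTyped.exists_ι hxS
    exact ⟨q, c.lift_inter hx, rfl⟩
  · rintro _ ⟨q, hq, rfl⟩
    exact ⟨c.toTyped.ι_mem q, c.mem_lift hq⟩

theorem perf_or_solv : c.Perf ∨ c.Solv := by
  haveI : Fact (Nat.Prime 2) := ⟨Nat.prime_two⟩
  haveI hRn : (⁅c.lift, c.lift⁆ : Subgroup H).Normal := inferInstance
  by_cases h : ∀ q, c.ι q ∈ ⁅c.lift, c.lift⁆ → q = 1 ∨ q = t a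
  · right
    have hZ := c.le_center_of_inter (hR := hRn) h
    refine ⟨?_, ?_⟩
    · -- the closure is nilpotent
      have hker : (Abelianization.of : ↥c.lift →* _).ker ≤ center ↥c.lift := by
        rw [Abelianization.ker_of]
        intro x hx
        have hxH : (x : H) ∈ ⁅c.lift, c.lift⁆ := by
          have := mem_map_of_mem c.lift.subtype hx
          rwa [_root_.commutator_def, map_commutator, ← MonoidHom.range_eq_map, range_subtype] at this
        refine mem_center_iff.2 fun y => Subtype.ext ?_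
        rcases c.zpowers_t.1 (hZ hxH) with e | e <;> simp only [Subgroup.coe_mul, e]
        · simp
        · exact c.comm_t y
      haveI : Group.IsNilpotent ↥c.lift :=
        Subgroup.isNilpotent_of_ker_le_center Abelianization.of hker
      obtain ⟨W, hW⟩ := c.lift_sylow
      haveI hWn : (W : Subgroup ↥c.lift).Normal :=
        Sylow.normal_of_normalizerCondition Group.normalizerCondition_of_isNilpotent W
      haveI : (W : Subgroup ↥c.lift).Characteristic := Sylow.characteristic_of_normal W hWn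
      haveI hn : ((W : Subgroup ↥c.lift).map c.lift.subtype).Normal := inferInstance
      rw [hW] at hn
      refine le_antisymm (normalClosure_le_normal ?_) ?_
      · rintro _ ⟨q, hq, rfl⟩; exact mem_map_of_mem _ hq
      · rintro _ ⟨q, hq, rfl⟩; exact c.mem_lift hq
    · by_contra hne
      obtain ⟨p, hp, q, hq, h1, h2⟩ := not_comm_mod (a := a) (by have := c.two_le; omega)
      refine (h _ ?_).elim h1 h2
      rw [map_mul, map_mul, map_mul, map_inv, map_inv, ← commutatorElement_def]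
      exact commutator_mem_commutator (c.mem_lift hp) (c.mem_lift hq)
  · left
    push Not at h
    obtain ⟨q, hq, h1, h2⟩ := h
    have hle : ⁅c.lift, c.lift⁆ ≤ c.lift := commutator_le_self _
    obtain ⟨j, hj⟩ := c.root_of (c.lift_inter (hle hq)) h1 h2
    refine le_antisymm hle (c.lift_le_of_root hRn (pow_mem (c.lift_inter (hle hq)) j) hj ?_)
    rw [map_pow]
    exact pow_mem hq j

/-- The two closures commute. -/
theorem lift_commute : c.flip.lift ≤ centralizer (c.lift : Set H) := by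
  have key : ∀ L M : Subgroup H, ⁅L, L⁆ = L → (∀ x ∈ L, ∀ y ∈ M, ⁅x, y⁆ ∈ zpowers (c.ι (t a))) →
      ⁅L, M⁆ = ⊥ := by
    intro L M hL hLM
    have hb : ⁅⁅L, M⁆, L⁆ = ⊥ := by
      rw [eq_bot_iff]
      refine commutator_le.2 fun x hx y _ => ?_
      have hx' : x ∈ zpowers (c.ι (t a)) := (commutator_le.2 hLM) hx
      rw [mem_bot, commutatorElement_eq_one_iff_mul_comm]
      rcases c.zpowers_t.1 hx' with rfl | rfl
      · simp
      · exact (c.comm_t y).symm
    have hb' : ⁅⁅M, L⁆, L⁆ = ⊥ := by rw [Subgroup.commutator_comm M L]; exact hb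
    have := commutator_commutator_eq_bot_of_rotate hb hb'
    rwa [hL] at this
  rw [← commutator_eq_bot_iff_le_centralizer]
  rcases c.perf_or_solv with h1 | h1
  · rw [Subgroup.commutator_comm]
    exact key _ _ h1 fun x hx y hy => c.commutator_lift_le hx hy
  rcases c.flip.perf_or_solv with h2 | h2
  · refine key _ _ h2 fun x hx y hy => ?_
    have := inv_mem (c.commutator_lift_le hy hx)
    rwa [commutatorElement_inv] at this
  rw [commutator_eq_bot_iff_le_centralizer, h1.1, h2.1]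
  rintro _ ⟨q, hq, rfl⟩
  refine mem_centralizer_iff.2 ?_
  rintro _ ⟨p, hp, rfl⟩
  rw [flip_ι, ← map_mul, ← map_mul, comm_Q hp (show GTwoCent.flip _ q ∈ Q2 a by rw [mem_Q2, flip_flip]; exact hq)]

theorem le_cent_flip : c.lift ≤ centralizer (c.flip.lift : Set H) :=
  le_centralizer_iff.1 c.lift_commute

/-- The action in the perfect case. -/
theorem perf_data (hP : c.Perf) : (∃ (F : Type) (_ : Field F) (_ : Fintype F), Odd (Fintype.card F) ∧
    Nonempty (↥c.lift ≃* Matrix.SpecialLinearGroup (Fin 2) F)) ∧ (∀ M : Subgroup c.lift, M.index ≠ 2) ∧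
    ∀ h k : H, ∃ l ∈ c.lift, ⁅h, k⁆ * l⁻¹ ∈ centralizer (c.lift : Set H) := by
  haveI : Fact (Nat.Prime 2) := ⟨Nat.prime_two⟩
  obtain ⟨k, hk⟩ : ∃ k, a = k + 2 := ⟨a - 2, by have := c.two_le; omega⟩
  have hperf : commutator ↥c.lift = ⊤ := by
    refine map_injective c.lift.subtype_injective ?_
    rw [_root_.commutator_def, map_commutator, ← MonoidHom.range_eq_map, range_subtype]
    exact hP
  have hidx : ∀ M : Subgroup c.lift, M.index ≠ 2 := by
    intro M h2
    haveI : M.Normal := normal_of_index_eq_two h2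
    have hc : Nat.card (↥c.lift ⧸ M) = 2 := by rw [← index_eq_card, h2]
    haveI : IsCyclic (↥c.lift ⧸ M) := isCyclic_of_prime_card hc
    letI : CommGroup (↥c.lift ⧸ M) := IsCyclic.commGroup
    have hle := Abelianization.commutator_subset_ker (QuotientGroup.mk' M)
    rw [hperf, QuotientGroup.ker_mk', top_le_iff] at hle
    rw [hle, index_top] at h2
    exact absurd h2 (by decide)
  obtain ⟨W, hW⟩ := c.lift_sylow
  obtain ⟨eQ⟩ : Nonempty (↥(W : Subgroup c.lift) ≃* QuaternionGroup (2 ^ (k + 1))) := by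
    subst hk
    obtain ⟨q⟩ := quat_iso (k := k)
    exact ⟨((W : Subgroup c.lift).equivMapOfInjective _ c.lift.subtype_injective).trans
      ((MulEquiv.subgroupCongr hW).trans (((Q1 (k + 2)).equivMapOfInjective c.ι c.toTyped.ι_inj).symm.trans q.symm))⟩
  have hns : ¬ Group.IsSolvable ↥c.lift := by
    intro hs
    have : Nontrivial ↥c.lift := ⟨⟨⟨_, c.t_mem_lift⟩, 1, fun e => t_ne_one c.ha
      (c.toTyped.ι_inj ((congrArg Subtype.val e).trans (map_one c.ι).symm))⟩⟩
    exact (Group.IsSolvable.commutator_lt_top_of_nontrivial ↥c.lift).ne hperf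
  obtain ⟨L, hLn, hLi, -, hLp, -, -, hcase⟩ := Cfsg.Lib.GWD.quaternion_kernel Cfsg.Lib.GWD.dihedralProp
    (Cfsg.Lib.GenDihedral.noOdd_sub c.noOdd c.lift) hidx W k eQ hns
  haveI := hLn
  obtain rfl : L = ⊤ := by
    haveI : Group.IsSolvable (↥c.lift ⧸ L) := Cfsg.Agent.PF.isSolvable_of_odd _ (by rwa [← index_eq_card])
    have := Cfsg.Lib.GWD.perfect_le_ker (QuotientGroup.mk' L) (X := (⊤ : Subgroup c.lift))
      (by rw [← _root_.commutator_def]; exact hperf)
    rwa [QuotientGroup.ker_mk', top_le_iff] at this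
  rcases hcase with ⟨F, i1, i2, hodd, -, ⟨eS⟩, ⟨eP⟩⟩ | ⟨hcard, ⟨eA⟩⟩
  · refine ⟨⟨F, i1, i2, hodd, ⟨Subgroup.topEquiv.symm.trans eS⟩⟩, hidx, fun h k' => ?_⟩
    obtain ⟨e0⟩ := exists_center_congr (Subgroup.topEquiv (G := ↥c.lift))
    obtain ⟨ψ, hker, hin⟩ := Cfsg.Lib.GWD.exists_action c.lift hperf (e0.symm.trans eP)
    obtain ⟨m, hm⟩ := Cfsg.Lib.GWD.Outer.commutator_inner (ψ h) (ψ k')
    obtain ⟨l, hl, hlm⟩ := hin m
    refine ⟨l, hl, hker ▸ ?_⟩
    rw [MonoidHom.mem_ker, map_mul, map_commutatorElement, hm, map_inv, hlm, mul_inv_cancel]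
  · exfalso
    rcases Nat.eq_or_lt_of_le c.two_le with h2 | h3
    · -- the order of `2.A₇` is divisible by sixteen
      rw [Nat.card_congr Subgroup.topEquiv.toEquiv] at hcard
      have h16 := W.pow_dvd_card_of_pow_dvd_card (n := 4) (by rw [hcard]; norm_num)
      obtain rfl : k = 0 := by omega
      rw [Nat.card_congr eQ.toEquiv, Nat.card_eq_fintype_card, QuaternionGroup.card] at h16
      norm_num at h16
    · obtain ⟨e0⟩ := exists_center_congr (Subgroup.topEquiv (G := ↥c.lift))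
      obtain ⟨ψ, hker, -⟩ := Cfsg.Lib.GWD.exists_action c.lift hperf (e0.symm.trans eA)
      obtain ⟨w, hwQ, hw1, hwt⟩ := outer_four (a := a) (by omega)
      obtain ⟨i, hi⟩ := c.S.2 ⟨_, c.toTyped.ι_mem w⟩
      have hi' : (ψ (c.ι w)) ^ 2 ^ i = 1 := by
        rw [← map_pow, show c.ι w ^ 2 ^ i = 1 from congrArg Subtype.val hi, map_one]
      have h4 : c.ι (w ^ 4) ∈ centralizer (c.lift : Set H) := by
        rw [← hker, MonoidHom.mem_ker, map_pow, map_pow, Cfsg.Lib.GWD.aut_alt_seven_pow_four hi']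
      rcases Q1_center c.two_le hwQ (fun q hq => c.toTyped.ι_inj (by
          rw [map_mul, map_mul]; exact (mem_centralizer_iff.1 h4 _ (c.mem_lift hq)).symm)) with e | e
      exacts [hw1 e, hwt e]

theorem side_perf (hP : c.Perf) : c.Side c.lift :=
  ⟨inferInstance, c.le_cent_flip, le_rfl, fun _ h => c.lift_inter h, (c.perf_data hP).1,
    by rw [← show ⁅c.lift, c.lift⁆ = c.lift from hP, _root_.commutator_def]
       exact commutator_mono le_top le_top,
    (c.perf_data hP).2.1, (c.perf_data hP).2.2⟩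

end Core

end Cfsg.Lib.GTwoCent
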