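import Cfsg.Agent.GTwoCent.Omega

/-!
# Fusion in the centraliser of a central involution

The inner involutions other than `t` are fused, and `j` is not fused into the inner part; so the
centraliser has a normal subgroup of index two meeting the Sylow subgroup in the inner part.
-/

set_option autoImplicit false
set_option linter.style.haveILetI false
set_option linter.unusedSectionVars false

namespace Cfsg.Lib.GTwoCent

open Subgroup
open Cfsg.Lib.GTwoType Cfsg.Lib.GTwoType.Mdl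

universe v

variable {G : Type v} [Group G] [Finite G] {a : ℕ} (c : Typed G a)

local notation "T" => c.ι (t a)
local notation "U" => c.ι (u a)
local notation "J" => c.ι (jj a)

theorem commute_T (q : Mdl (2 ^ a)) : c.ι q * T = T * c.ι q := by
  rw [← map_mul, ← map_mul, t_central (by have := c.two_le; omega)]

/-- An element of order four with square `t` sends an involution it centralises to `t`, and `t` to `u`. -/
theorem exists_to_pair (h1 : ∀ x y : G, orderOf x = 2 → orderOf y = 2 → IsConj x y)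
    {k : Mdl (2 ^ a)} (hk : k * k = 1) (hk1 : k ≠ 1) (hkt : k ≠ t a) (hM : k ∈ M0 (2 ^ a)) :
    ∃ g : G, g * c.ι k * g⁻¹ = T ∧ g * T * g⁻¹ = U := by
  have ha : 1 ≤ a := by have := c.two_le; omega
  obtain ⟨v, hv, hv2⟩ := inner_root c.two_le hk hk1 hkt hM
  obtain ⟨g, hg, hgS⟩ := c.exists_conj_cent (h1 _ _ (c.order_ι hk hk1) (c.order_ι tt (t_ne_one ha)))
  obtain ⟨w, hw⟩ := c.exists_ι (hgS _ (c.ι_mem v) (show Commute (c.ι v) (c.ι k) from by
    rw [commute_iff_eq, ← map_mul, ← map_mul, hv]))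
  have hww : c.ι (w * w) = g * T * g⁻¹ := by rw [map_mul, hw, ← hv2, map_mul]; group
  have ho : orderOf (c.ι (w * w)) = 2 := by
    rw [hww, ← MulAut.conj_apply, MulEquiv.orderOf_eq, c.order_ι tt (t_ne_one ha)]
  obtain ⟨hi, hne⟩ := c.inv_pre ho
  rcases square_inv ha w hne hi with e | e | e
  · exfalso
    have h : g * T * g⁻¹ = g * c.ι k * g⁻¹ := by rw [← hww, e, hg]
    exact hkt (c.ι_inj (mul_left_cancel (mul_right_cancel h))).symm
  · exact ⟨g, hg, by rw [← hww, e]⟩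
  · have hr : r (2 ^ a) * u' a * (r (2 ^ a))⁻¹ = u a := by rw [conj_eq_iff]; ext <;> simp [mul_def, ax, sg]
    refine ⟨c.ι (r (2 ^ a)) * g, ?_, ?_⟩
    · calc c.ι (r (2 ^ a)) * g * c.ι k * (c.ι (r (2 ^ a)) * g)⁻¹
          = c.ι (r (2 ^ a)) * (g * c.ι k * g⁻¹) * (c.ι (r (2 ^ a)))⁻¹ := by group
        _ = T := by rw [hg, commute_T, mul_inv_cancel_right]
    · calc c.ι (r (2 ^ a)) * g * T * (c.ι (r (2 ^ a)) * g)⁻¹
          = c.ι (r (2 ^ a)) * (g * T * g⁻¹) * (c.ι (r (2 ^ a)))⁻¹ := by group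
        _ = U := by rw [← hww, e, ← map_inv, ← map_mul, ← map_mul, hr]

/-- The inner involutions other than `t` are conjugate in the centraliser. -/
theorem inner_fused (h1 : ∀ x y : G, orderOf x = 2 → orderOf y = 2 → IsConj x y)
    {k : Mdl (2 ^ a)} (hk : k * k = 1) (hk1 : k ≠ 1) (hkt : k ≠ t a) (hM : k ∈ M0 (2 ^ a)) :
    ∃ g : G, g * T = T * g ∧ g * c.ι k * g⁻¹ = U := by
  have ha : 1 ≤ a := by have := c.two_le; omega
  obtain ⟨g, hg, hg'⟩ := exists_to_pair c h1 hk hk1 hkt hM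
  obtain ⟨h, hh, hh'⟩ := exists_to_pair c h1 uu (u_ne_one ha) (u_ne_t ha) (u_mem c.two_le)
  refine ⟨h * g, mul_inv_eq_iff_eq_mul.1 ?_, ?_⟩
  · calc h * g * T * (h * g)⁻¹ = h * (g * T * g⁻¹) * h⁻¹ := by group
      _ = T := by rw [hg', hh]
  · calc h * g * c.ι k * (h * g)⁻¹ = h * (g * c.ι k * g⁻¹) * h⁻¹ := by group
      _ = U := by rw [hg, hh']

/-- No element of the centraliser moves `u` to `u t` and fixes `j` modulo `t`. -/
theorem no_swap {g : G} (hgT : g * T = T * g) (hgU : g * U * g⁻¹ = T * U)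
    (hgJ : g * J * g⁻¹ = J ∨ g * J * g⁻¹ = T * J) : False := by
  have ha : 1 ≤ a := by have := c.two_le; omega
  set R := c.ι (r (2 ^ a))
  have hRU : R * U * R⁻¹ = T * U := by
    rw [← map_inv, ← map_mul, ← map_mul, ← map_mul]
    congr 1
    rw [conj_eq_iff]; ext <;> simp [mul_def, ax, sg, hf_add']
  have hgR : g * R ∈ Om c := by
    refine (mem_Om c).2 ⟨by rw [mul_assoc, commute_T, ← mul_assoc, hgT, mul_assoc],
      mul_inv_eq_iff_eq_mul.1 ?_⟩
    calc g * R * U * (g * R)⁻¹ = g * (R * U * R⁻¹) * g⁻¹ := by group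
      _ = (g * T * g⁻¹) * (g * U * g⁻¹) := by rw [hRU]; group
      _ = U := by rw [hgT, mul_inv_cancel_right, hgU, ← mul_assoc, ← map_mul, tt, map_one, one_mul]
  have hRJ : R * c.ι (iv (2 ^ a) 0 1) * R⁻¹ = J := by
    rw [← map_inv, ← map_mul, ← map_mul]
    congr 1
    rw [conj_eq_iff]; ext <;> simp [mul_def, ax, sg]
  have key : ∀ x y : ZMod (2 ^ a), Even y → g * J * g⁻¹ = c.ι (iv (2 ^ a) x y) → False := by
    intro x y hy h
    obtain ⟨k, hk, hk'⟩ := omega_fusion c hgR (p := iv (2 ^ a) 0 1) (q := iv (2 ^ a) x y) rfl rfl (by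
      calc g * R * c.ι (iv (2 ^ a) 0 1) * (g * R)⁻¹ = g * (R * c.ι (iv (2 ^ a) 0 1) * R⁻¹) * g⁻¹ := by group
        _ = _ := by rw [hRJ, h])
    have h' := parity_conj (g := k) hk hk'
    have := h'.add hy
    rw [sub_add_cancel] at this
    exact not_even_one ha this
  rcases hgJ with h | h
  · exact key 1 0 ⟨0, by simp⟩ h
  · refine key (hf a + 1) (hf a) (hf_even c.two_le) ?_
    rw [h, ← map_mul]
    congr 1
    ext <;> simp [mul_def, ax, sg]

/-- `j` is not fused into the inner part. -/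
theorem outer_not_fused (h1 : ∀ x y : G, orderOf x = 2 → orderOf y = 2 → IsConj x y) {g : G}
    (hgT : g * T = T * g) {k : Mdl (2 ^ a)} (hM : k ∈ M0 (2 ^ a)) (hgk : g * J * g⁻¹ = c.ι k) : False := by
  haveI : Fact (Nat.Prime 2) := ⟨Nat.prime_two⟩
  have ha : 1 ≤ a := by have := c.two_le; omega
  haveI : NeZero (2 ^ a) := ⟨by positivity⟩
  have hk : k * k = 1 ∧ k ≠ 1 := c.inv_pre (by
    rw [← hgk, ← MulAut.conj_apply, MulEquiv.orderOf_eq,
      c.order_ι jj_sq (fun e => jj_notMem ha (e ▸ one_mem _))])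
  have hkt : k ≠ t a := fun e => by
    subst e
    have : J = T := by
      calc J = g⁻¹ * (g * J * g⁻¹) * g := by group
        _ = g⁻¹ * (g * T) := by rw [hgk, hgT, mul_assoc]
        _ = T := inv_mul_cancel_left _ _
    exact jj_notMem ha (c.ι_inj this ▸ t_mem c.two_le)
  obtain ⟨h, hhT, hh⟩ := inner_fused c h1 hk.1 hk.2 hkt hM
  -- `f` moves `j` to `u`
  set f := h * g with hf'
  have hfT : f * T = T * f := by rw [hf', mul_assoc, hgT, ← mul_assoc, hhT, mul_assoc]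
  have hfJ : f * J * f⁻¹ = U := by
    calc f * J * f⁻¹ = h * (g * J * g⁻¹) * h⁻¹ := by rw [hf']; group
      _ = U := by rw [hgk, hh]
  -- a two-group of order at least `2 n²` centralising `t` and `j`
  set CJ : Subgroup G := centralizer ({T, J} : Set G) with hCJ
  have hmemCJ : ∀ x, x ∈ CJ ↔ T * x = x * T ∧ J * x = x * J := fun x => by
    simp [hCJ, mem_centralizer_iff]
  set B : Subgroup G := ((Ae (2 ^ a)).map c.ι).map (MulAut.conj f⁻¹).toMonoidHom with hB
  have hBJ : B ≤ CJ := by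
    rintro _ ⟨_, ⟨q, hq, rfl⟩, rfl⟩
    have hqU := congrArg c.ι (comm_u_of_s hq)
    rw [map_mul, map_mul] at hqU
    have hfT' : f⁻¹ * T * f = T := by rw [mul_assoc, ← hfT, inv_mul_cancel_left]
    have hfJ' : f⁻¹ * U * f = J := by rw [← hfJ]; group
    refine (hmemCJ _).2 ⟨?_, ?_⟩
    · show T * (f⁻¹ * c.ι q * f⁻¹⁻¹) = f⁻¹ * c.ι q * f⁻¹⁻¹ * T
      calc T * (f⁻¹ * c.ι q * f⁻¹⁻¹) = (f⁻¹ * T * f) * (f⁻¹ * c.ι q * f⁻¹⁻¹) := by rw [hfT']
        _ = f⁻¹ * (T * c.ι q) * f := by group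
        _ = f⁻¹ * (c.ι q * T) * f := by rw [commute_T]
        _ = f⁻¹ * c.ι q * f⁻¹⁻¹ * (f⁻¹ * T * f) := by group
        _ = _ := by rw [hfT']
    · show J * (f⁻¹ * c.ι q * f⁻¹⁻¹) = f⁻¹ * c.ι q * f⁻¹⁻¹ * J
      calc J * (f⁻¹ * c.ι q * f⁻¹⁻¹) = (f⁻¹ * U * f) * (f⁻¹ * c.ι q * f⁻¹⁻¹) := by rw [hfJ']
        _ = f⁻¹ * (U * c.ι q) * f := by group
        _ = f⁻¹ * (c.ι q * U) * f := by rw [hqU]
        _ = f⁻¹ * c.ι q * f⁻¹⁻¹ * (f⁻¹ * U * f) := by group
        _ = _ := by rw [hfJ']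
  set E : Subgroup G := closure ({T, U, J} : Set G) with hE
  have hEgen : T ∈ E ∧ U ∈ E ∧ J ∈ E :=
    ⟨subset_closure (by simp), subset_closure (by simp), subset_closure (by simp)⟩
  have hJU : J * U = U * J := by rw [← map_mul, ← map_mul, jj_u]
  have hEJ : E ≤ CJ := by
    refine (closure_le _).2 ?_
    rintro x (rfl | rfl | rfl)
    · exact (hmemCJ _).2 ⟨rfl, commute_T c _⟩
    · exact (hmemCJ _).2 ⟨(commute_T c _).symm, hJU⟩
    · exact (hmemCJ _).2 ⟨(commute_T c _).symm, rfl⟩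
  have hE8 : (E : Set G) ⊆
      c.ι '' ({1, t a, u a, u' a, jj a, t a * jj a, u a * jj a, u' a * jj a} : Set (Mdl (2 ^ a))) := by
    intro x hx
    have hEO : E ≤ Om c := (closure_le _).2 (by
      rintro y (rfl | rfl | rfl) <;> exact ι_Ae c rfl)
    have hEp : IsPGroup 2 E := c.S.2.to_le ((closure_le _).2 (by
      rintro y (rfl | rfl | rfl) <;> exact c.ι_mem _))
    exact omega_two c hEp hEO hEgen.1 hEgen.2.1 hEgen.2.2
      (fun p hp => ((hmemCJ p).1 (hEJ hp)).2.symm) hx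
  have hp : IsPGroup 2 E := c.S.2.to_le ((closure_le _).2 (by
    rintro y (rfl | rfl | rfl) <;> exact c.ι_mem _))
  obtain ⟨P, hP⟩ := (hp.of_equiv (subgroupOfEquivOfLe hEJ).symm).exists_le_sylow
  set P' : Subgroup G := (P : Subgroup ↥CJ).map CJ.subtype with hP'
  have hEP : E ≤ P' := fun x hx => ⟨⟨x, hEJ hx⟩, hP hx, rfl⟩
  have hPp : IsPGroup 2 P' := P.2.map _
  have hlt : E < P' := by
    refine lt_of_le_of_ne hEP fun he => ?_
    have hBp : IsPGroup 2 B := ((c.S.2.to_le (by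
      rintro _ ⟨q, -, rfl⟩; exact c.ι_mem q)).map (MulAut.conj f⁻¹).toMonoidHom)
    obtain ⟨P₂, hP₂⟩ := (hBp.of_equiv (subgroupOfEquivOfLe hBJ).symm).exists_le_sylow
    have hcP : Nat.card P' = Nat.card (P₂ : Subgroup ↥CJ) := by
      rw [← Nat.card_congr ((P : Subgroup ↥CJ).equivMapOfInjective _ CJ.subtype_injective).toEquiv]
      exact Nat.card_congr (Sylow.equiv P P₂).toEquiv
    have hcB : Nat.card B ≤ Nat.card (P₂ : Subgroup ↥CJ) := by
      rw [← Nat.card_congr (subgroupOfEquivOfLe hBJ).toEquiv]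
      exact Subgroup.card_le_of_le hP₂
    have hcE : Nat.card E ≤ 8 := by
      refine le_trans ?_ (le_of_eq (Nat.card_fin 8))
      let f8 : Fin 8 → Mdl (2 ^ a) :=
        ![1, t a, u a, u' a, jj a, t a * jj a, u a * jj a, u' a * jj a]
      have hsub : (E : Set G) ⊆ Set.range (c.ι ∘ f8) := by
        intro x hx
        obtain ⟨q, hq, rfl⟩ := hE8 hx
        simp only [Set.mem_insert_iff, Set.mem_singleton_iff] at hq
        rcases hq with rfl | rfl | rfl | rfl | rfl | rfl | rfl | rfl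
        exacts [⟨0, rfl⟩, ⟨1, rfl⟩, ⟨2, rfl⟩, ⟨3, rfl⟩, ⟨4, rfl⟩, ⟨5, rfl⟩, ⟨6, rfl⟩, ⟨7, rfl⟩]
      exact (Nat.card_mono (Set.finite_range _) hsub).trans (Finite.card_range_le _)
    have hcAe : 2 * Nat.card B = 4 * (2 ^ a) ^ 2 := by
      rw [hB, ← Nat.card_congr (((Ae (2 ^ a)).map c.ι).equivMapOfInjective _ (MulAut.conj f⁻¹).injective).toEquiv,
        ← Nat.card_congr ((Ae (2 ^ a)).equivMapOfInjective c.ι c.ι_inj).toEquiv, ← Mdl.card]
      have h := (Ae (2 ^ a)).card_mul_index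
      rw [Ae_index] at h
      rw [← h, mul_comm]
    have : 4 ^ 2 ≤ (2 ^ a) ^ 2 :=
      Nat.pow_le_pow_left (show 2 ^ 2 ≤ 2 ^ a from Nat.pow_le_pow_right two_pos c.two_le) 2
    rw [← he] at hcP
    omega
  haveI : Group.IsNilpotent P' := hPp.isNilpotent
  have hnc := Group.normalizerCondition_of_isNilpotent (G := P') (E.subgroupOf P') (by
    refine lt_top_iff_ne_top.2 fun h => ?_
    exact hlt.not_ge (subgroupOf_eq_top.1 h))
  obtain ⟨⟨x, hxP⟩, hxN, hxE⟩ := SetLike.exists_of_lt hnc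
  have hxnE : x ∉ E := hxE
  have hxconj : ∀ y ∈ E, x * y * x⁻¹ ∈ E := fun y hy =>
    ((mem_normalizer_iff.1 hxN ⟨y, hEP hy⟩).1 hy : _)
  obtain ⟨z, hz, hzx⟩ := hxP
  have hxc := (hmemCJ x).1 (hzx ▸ z.2)
  have hxT : x * T * x⁻¹ = T := by rw [← hxc.1, mul_inv_cancel_right]
  have hxJ : x * J * x⁻¹ = J := by rw [← hxc.2, mul_inv_cancel_right]
  obtain ⟨q, hq, hqx⟩ := hE8 (hxconj U hEgen.2.1)
  have hinj : ∀ p : Mdl (2 ^ a), x * c.ι p * x⁻¹ = x * U * x⁻¹ → p = u a := fun p h =>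
    c.ι_inj (mul_left_cancel (mul_right_cancel h))
  simp only [Set.mem_insert_iff, Set.mem_singleton_iff] at hq
  rcases hq with rfl | rfl | rfl | rfl | rfl | rfl | rfl | rfl
  · exact u_ne_one ha (hinj 1 (by rw [← hqx, map_one]; simp)).symm
  · exact u_ne_t ha (hinj (t a) (by rw [← hqx, hxT])).symm
  · -- centralising `Ω`
    have hxO : x ∈ Om c := (mem_Om c).2 ⟨hxc.1.symm, mul_inv_eq_iff_eq_mul.1 hqx.symm⟩
    have hEO : E ≤ Om c := (closure_le _).2 (by
      rintro y (rfl | rfl | rfl) <;> exact ι_Ae c rfl)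
    have hle : E ⊔ zpowers x ≤ P' := sup_le hEP (zpowers_le.2 ⟨z, hz, hzx⟩)
    have h := omega_two c (hPp.to_le hle) (sup_le hEO (zpowers_le.2 hxO)) (le_sup_left (b := zpowers x) hEgen.1)
      (le_sup_left (b := zpowers x) hEgen.2.1) (le_sup_left (b := zpowers x) hEgen.2.2)
      (fun p hp => by
        obtain ⟨w, -, rfl⟩ := hle hp
        exact ((hmemCJ _).1 w.2).2.symm) (mem_sup_right (mem_zpowers x))
    obtain ⟨w, hw, rfl⟩ := h
    refine hxnE ?_
    simp only [Set.mem_insert_iff, Set.mem_singleton_iff] at hw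
    have hu' : c.ι (u' a) ∈ E := by rw [← t_mul_u, map_mul]; exact mul_mem hEgen.1 hEgen.2.1
    rcases hw with rfl | rfl | rfl | rfl | rfl | rfl | rfl | rfl <;>
      (try simp only [map_mul, map_one]) <;>
      first
        | exact one_mem E
        | exact hEgen.1
        | exact hEgen.2.1
        | exact hu'
        | exact hEgen.2.2
        | exact mul_mem hEgen.1 hEgen.2.2
        | exact mul_mem hEgen.2.1 hEgen.2.2
        | exact mul_mem hu' hEgen.2.2
  · refine no_swap c hxc.1.symm ?_ (Or.inl hxJ)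
    rw [← hqx, ← map_mul, t_mul_u]
  · exact jj_notMem ha (hinj (jj a) (by rw [← hqx, hxJ]) ▸ u_mem c.two_le)
  · have h := hinj (t a * jj a) (by
      rw [← hqx, map_mul]
      calc x * (T * J) * x⁻¹ = (x * T * x⁻¹) * (x * J * x⁻¹) := by group
        _ = T * J := by rw [hxT, hxJ])
    refine jj_notMem ha ?_
    have := mul_mem (t_mem c.two_le) (h ▸ u_mem c.two_le : t a * jj a ∈ M0 (2 ^ a))
    rwa [← mul_assoc, tt, one_mul] at this
  all_goals
    obtain ⟨v, hv, hvJ⟩ := translation c.two_le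
    set V := c.ι v with hV
    have hVT : V * T * V⁻¹ = T := by rw [commute_T, mul_inv_cancel_right]
    have hVU : V * U * V⁻¹ = U := by rw [hV, ← map_mul, hv, map_mul, mul_inv_cancel_right]
    have hVJ : V * J * V⁻¹ = T * J := by rw [hV, ← map_inv, ← map_mul, ← map_mul, hvJ, map_mul]
    set w := x * V * x⁻¹ with hw'
    have hwT : w * T * w⁻¹ = T := by
      calc w * T * w⁻¹ = x * (V * (x⁻¹ * T * x) * V⁻¹) * x⁻¹ := by rw [hw']; group
        _ = T := by
          have : x⁻¹ * T * x = T := by rw [mul_assoc, hxc.1, inv_mul_cancel_left]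
          rw [this, hVT, hxT]
    have hwJ : w * J * w⁻¹ = T * J := by
      calc w * J * w⁻¹ = x * (V * (x⁻¹ * J * x) * V⁻¹) * x⁻¹ := by rw [hw']; group
        _ = x * (T * J) * x⁻¹ := by
          have : x⁻¹ * J * x = J := by rw [mul_assoc, hxc.2, inv_mul_cancel_left]
          rw [this, hVJ]
        _ = (x * T * x⁻¹) * (x * J * x⁻¹) := by group
        _ = T * J := by rw [hxT, hxJ]
    have hwU : w * (x * U * x⁻¹) * w⁻¹ = x * U * x⁻¹ := by
      calc w * (x * U * x⁻¹) * w⁻¹ = x * (V * U * V⁻¹) * x⁻¹ := by rw [hw']; group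
        _ = _ := by rw [hVU]
    refine no_swap c (mul_inv_eq_iff_eq_mul.1 hwT) ?_ (Or.inr hwJ)
  · rw [← hqx, map_mul] at hwU
    have e : w * U * w⁻¹ * (T * J) = U * J := by
      rw [← hwJ]
      calc w * U * w⁻¹ * (w * J * w⁻¹) = w * (U * J) * w⁻¹ := by group
        _ = _ := hwU
    calc w * U * w⁻¹ = (U * J) * (T * J)⁻¹ := by rw [← e, mul_inv_cancel_right]
      _ = U * T⁻¹ := by group
      _ = T * U := by rw [inv_eq_of_mul_eq_one_left (by rw [← map_mul, tt, map_one]), commute_T]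
  · rw [← hqx, map_mul, ← t_mul_u, map_mul] at hwU
    have e : w * U * w⁻¹ * (T * J) = U * J := by
      rw [← hwJ]
      calc w * U * w⁻¹ * (w * J * w⁻¹) = (w * T * w⁻¹)⁻¹ * (w * (T * U * J) * w⁻¹) := by group
        _ = U * J := by rw [hwU, hwT]; group
    calc w * U * w⁻¹ = (U * J) * (T * J)⁻¹ := by rw [← e, mul_inv_cancel_right]
      _ = U * T⁻¹ := by group
      _ = T * U := by rw [inv_eq_of_mul_eq_one_left (by rw [← map_mul, tt, map_one]), commute_T]

end Cfsg.Lib.GTwoCent
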