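import Cfsg.Agent.GTwoCent.Solv

/-!
# Two commuting normal `SL(2, q)` with product the derived subgroup
-/

set_option autoImplicit false
set_option linter.style.haveILetI false
set_option linter.unusedSectionVars false

namespace Cfsg.Lib.GTwoCent

open Subgroup
open Cfsg.Lib.GTwoType Cfsg.Lib.GTwoType.Mdl
open scoped commutatorElement

universe v

namespace Core

variable {H : Type v} [Group H] [Finite H] {a : ℕ} (c : Core H a)

theorem exists_side : ∃ L, c.Side L := by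
  rcases c.perf_or_solv with h | h
  · exact ⟨_, c.side_perf h⟩
  · obtain ⟨-, rfl⟩ := id h
    exact ⟨_, c.side_solv h⟩

theorem flip_flip_lift : c.flip.flip.lift = c.lift := by
  have : c.flip.flip.ι = c.ι := MonoidHom.ext fun q => by rw [flip_ι, flip_ι, flip_flip]
  rw [lift, lift, this]

/-- The structure of the centraliser modulo its odd core. -/
theorem structure_thm (c : Core H a) : ∃ L₁ L₂ : Subgroup H, L₁.Normal ∧ L₂.Normal ∧
    (∃ (F₁ : Type) (_ : Field F₁) (_ : Fintype F₁), Odd (Fintype.card F₁) ∧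
      Nonempty (↥L₁ ≃* Matrix.SpecialLinearGroup (Fin 2) F₁)) ∧
    (∃ (F₂ : Type) (_ : Field F₂) (_ : Fintype F₂), Odd (Fintype.card F₂) ∧
      Nonempty (↥L₂ ≃* Matrix.SpecialLinearGroup (Fin 2) F₂)) ∧
    ⁅L₁, L₂⁆ = ⊥ ∧ L₁ ⊔ L₂ = commutator H := by
  obtain ⟨L₁, S₁⟩ := c.exists_side
  obtain ⟨L₂, S₂⟩ := c.flip.exists_side
  haveI := S₁.normal
  haveI := S₂.normal
  have hL₂1 : L₂ ≤ centralizer (c.lift : Set H) := c.flip_flip_lift ▸ S₂.le_cent
  have hin2 : ∀ q, c.ι q ∈ L₂ → q ∈ Q2 a := fun q hq =>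
    S₂.inter (GTwoCent.flip (2 ^ a) q) (by rwa [flip_ι, flip_flip])
  have hinf : L₁ ⊓ L₂ ≤ zpowers (c.ι (t a)) :=
    c.le_center_of_inter (hR := inferInstance) fun q hq => inter_Q c.ha (S₁.inter q hq.1) (hin2 q hq.2)
  have hcom : ⁅L₁, L₂⁆ = ⊥ := by
    rw [eq_bot_iff, commutator_le]
    intro x hx y hy
    rw [mem_bot]
    have hz : ∀ x ∈ L₁, ⁅x, y⁆ ∈ zpowers (c.ι (t a)) := fun x hx =>
      hinf (Subgroup.commutator_le_inf L₁ L₂ (commutator_mem_commutator hx hy))
    have hcz : ∀ z ∈ zpowers (c.ι (t a)), ∀ h : H, h * z = z * h := fun z hz h => by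
      rcases c.zpowers_t.1 hz with rfl | rfl
      · simp
      · exact c.comm_t h
    let f : ↥L₁ →* ↥(zpowers (c.ι (t a))) := MonoidHom.mk' (fun x => ⟨⁅(x : H), y⁆, hz x x.2⟩) fun u v => by
      refine Subtype.ext ?_
      show ⁅(u : H) * v, y⁆ = ⁅(u : H), y⁆ * ⁅(v : H), y⁆
      calc ⁅(u : H) * v, y⁆ = (u : H) * ⁅(v : H), y⁆ * (u : H)⁻¹ * ⁅(u : H), y⁆ := by
            simp only [commutatorElement_def]; group
        _ = ⁅(v : H), y⁆ * ⁅(u : H), y⁆ := by rw [hcz _ (hz v v.2), mul_inv_cancel_right]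
        _ = _ := hcz _ (hz u u.2) _
    have hker : f.ker = ⊤ := by
      have hd : f.ker.index ∣ 2 := by
        rw [index_ker]
        have := f.range.card_subgroup_dvd_card
        rwa [Nat.card_zpowers, c.toTyped.order_ι tt (t_ne_one c.ha)] at this
      rcases (Nat.dvd_prime Nat.prime_two).1 hd with e | e
      · exact index_eq_one.1 e
      · exact absurd e (S₁.noTwo _)
    exact congrArg Subtype.val (MonoidHom.mem_ker.1 (hker.ge (mem_top (⟨x, hx⟩ : ↥L₁))))
  refine ⟨L₁, L₂, inferInstance, inferInstance, S₁.sl, S₂.sl, hcom, le_antisymm (sup_le S₁.derived S₂.derived) ?_⟩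
  -- the derived subgroup is contained in the product
  set R := centralizer (c.lift : Set H) ⊓ centralizer (c.flip.lift : Set H) with hR
  haveI : (centralizer (c.lift : Set H)).Normal := normal_centralizer
  haveI : (centralizer (c.flip.lift : Set H)).Normal := normal_centralizer
  have hRZ : R ≤ zpowers (c.ι (t a)) := c.le_center_of_inter (hR := inferInstance) fun q hq =>
    cent_both c.two_le
      (fun p hp => c.toTyped.ι_inj (by
        rw [map_mul, map_mul]; exact (mem_centralizer_iff.1 hq.1 _ (c.mem_lift hp)).symm))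
      (fun p hp => c.toTyped.ι_inj (by
        rw [map_mul, map_mul]; exact (mem_centralizer_iff.1 hq.2 _ (c.mem_flip_lift hp)).symm))
  rw [_root_.commutator_def, commutator_le]
  intro h _ k _
  obtain ⟨l₁, hl₁, hc₁⟩ := S₁.inner h k
  obtain ⟨l₂, hl₂, hc₂⟩ := S₂.inner h k
  have hcm : l₁ * l₂ = l₂ * l₁ :=
    commutatorElement_eq_one_iff_mul_comm.1 (mem_bot.1 (hcom ▸ commutator_mem_commutator hl₁ hl₂))
  set x := ⁅h, k⁆
  have hxR : x * (l₁ * l₂)⁻¹ ∈ R := by
    refine mem_inf.2 ⟨?_, ?_⟩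
    · rw [hcm, _root_.mul_inv_rev, ← mul_assoc]
      exact mul_mem hc₁ (inv_mem (hL₂1 hl₂))
    · rw [_root_.mul_inv_rev, ← mul_assoc]
      exact mul_mem hc₂ (inv_mem (S₁.le_cent hl₁))
  have hx : x = x * (l₁ * l₂)⁻¹ * (l₁ * l₂) := by group
  rw [hx]
  refine mul_mem ?_ (mul_mem_sup hl₁ hl₂)
  exact mem_sup_left (S₁.lift_le ((zpowers_le.2 c.t_mem_lift) (hRZ hxR)))

end Core

end Cfsg.Lib.GTwoCent
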