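import Cfsg.Agent.GTwoCent.Parity
import Cfsg.Agent.GTwoType.Fusion
import Cfsg.Agent.GWDihedral.Shell.Target
import Cfsg.Agent.ClassSize.SquareFree.Cover
import Cfsg.Agent.S0111

/-!
# The centraliser of the four-group of the homocyclic part

It is the product of an odd core with the homocyclic group extended by the inversion.
-/

set_option autoImplicit false
set_option linter.style.haveILetI false
set_option linter.unusedSectionVars false

namespace Cfsg.Lib.GTwoCent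

open Subgroup
open Cfsg.Lib.GTwoType Cfsg.Lib.GTwoType.Mdl

universe v

/-- The elements fixing both coordinates. -/
def Ae (n : ℕ) : Subgroup (Mdl n) where
  carrier := {g | g.s = false}
  one_mem' := rfl
  mul_mem' := by
    intro g k (hg : g.s = false) (hk : k.s = false)
    show xor g.s k.s = false
    rw [hg, hk]; rfl
  inv_mem' := fun {g} hg => hg

/-- The homocyclic part. -/
def Ah (n : ℕ) : Subgroup (Mdl n) where
  carrier := {g | g.s = false ∧ g.e = false}
  one_mem' := ⟨rfl, rfl⟩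
  mul_mem' := by
    intro g k ⟨hg, hg'⟩ ⟨hk, hk'⟩
    exact ⟨show xor g.s k.s = false by rw [hg, hk]; rfl, show xor g.e k.e = false by rw [hg', hk']; rfl⟩
  inv_mem' := fun {g} hg => hg

theorem Ae_index (n : ℕ) : (Ae n).index = 2 :=
  Subgroup.index_eq_two_iff.2 ⟨r n, fun b => by
    cases hb : b.s
    · refine Or.inr ⟨hb, fun h => ?_⟩
      have : xor b.s true = false := h
      rw [hb] at this
      exact absurd this (by decide)
    · refine Or.inl ⟨show xor b.s true = false by rw [hb]; rfl, fun h => ?_⟩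
      exact absurd (show b.s = false from h) (by rw [hb]; decide)⟩

theorem Ah_index (n : ℕ) : (Ah n).relIndex (Ae n) = 2 :=
  Subgroup.index_eq_two_iff.2 ⟨⟨iv n 0 0, rfl⟩, fun b => by
    have hbs : (b : Mdl n).s = false := b.2
    cases hb : (b : Mdl n).e
    · refine Or.inr ⟨⟨hbs, hb⟩, fun h => ?_⟩
      have : xor (b : Mdl n).e true = false := h.2
      rw [hb] at this
      exact absurd this (by decide)
    · refine Or.inl ⟨⟨?_, show xor (b : Mdl n).e true = false by rw [hb]; rfl⟩, fun h => ?_⟩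
      · show xor (b : Mdl n).s false = false
        rw [hbs]; rfl
      · exact Bool.false_ne_true ((h.2 : (b : Mdl n).e = false).symm.trans hb)⟩

theorem Ah_comm {n : ℕ} {g k : Mdl n} (hg : g ∈ Ah n) (hk : k ∈ Ah n) : g * k = k * g := by
  obtain ⟨x, y, s, e⟩ := g
  obtain ⟨x', y', s', e'⟩ := k
  obtain ⟨rfl, rfl⟩ : s = false ∧ e = false := hg
  obtain ⟨rfl, rfl⟩ : s' = false ∧ e' = false := hk
  ext <;> simp [mul_def, ax, sg, add_comm]

theorem Ah_invol {a : ℕ} (ha : 1 ≤ a) {g : Mdl (2 ^ a)} (hg : g ∈ Ah (2 ^ a)) (h : g * g = 1) :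
    g = 1 ∨ g = t a ∨ g = u a ∨ g = t a * u a := by
  obtain ⟨x, y, s, e⟩ := g
  obtain ⟨rfl, rfl⟩ : s = false ∧ e = false := hg
  simp [mul_def, one_def, ax, sg] at h
  rcases two_eq_zero ha h.1 with rfl | rfl <;> rcases two_eq_zero ha h.2 with rfl | rfl <;>
    simp [one_def, mul_def, ax, sg, hf_add']

variable {G : Type v} [Group G] [Finite G] {a : ℕ} (c : Typed G a)

/-- The centraliser of the four-group. -/
def Om : Subgroup G := centralizer ({c.ι (t a), c.ι (u a)} : Set G)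

theorem mem_Om {g : G} :
    g ∈ Om c ↔ g * c.ι (t a) = c.ι (t a) * g ∧ g * c.ι (u a) = c.ι (u a) * g := by
  simp only [Om, mem_centralizer_iff, Set.mem_insert_iff, Set.mem_singleton_iff, forall_eq_or_imp, forall_eq]
  exact ⟨fun h => ⟨h.1.symm, h.2.symm⟩, fun h => ⟨h.1.symm, h.2.symm⟩⟩

theorem ι_Ae {q : Mdl (2 ^ a)} (hq : q ∈ Ae (2 ^ a)) : c.ι q ∈ Om c :=
  (mem_Om c).2 ⟨by rw [← map_mul, ← map_mul, t_central (by have := c.two_le; omega)],
    by rw [← map_mul, ← map_mul, comm_u_of_s hq]⟩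

theorem Ae_map_eq : (Ae (2 ^ a)).map c.ι = (c.S : Subgroup G) ⊓ Om c := by
  refine le_antisymm ?_ ?_
  · rintro _ ⟨q, hq, rfl⟩
    exact ⟨c.ι_mem q, ι_Ae c hq⟩
  · rintro g ⟨hgS, hg⟩
    obtain ⟨q, rfl⟩ := c.exists_ι hgS
    exact ⟨q, s_of_comm_u (by have := c.two_le; omega) (c.ι_inj (by
      rw [map_mul, map_mul]; exact ((mem_Om c).1 hg).2)), rfl⟩

theorem sylow_Om : ∃ R : Sylow 2 ↥(Om c),
    (R : Subgroup ↥(Om c)) = ((Ae (2 ^ a)).map c.ι).subgroupOf (Om c) := by
  haveI : Fact (Nat.Prime 2) := ⟨Nat.prime_two⟩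
  haveI : NeZero (2 ^ a) := ⟨by positivity⟩
  have ha : 1 ≤ a := by have := c.two_le; omega
  have hle : (Ae (2 ^ a)).map c.ι ≤ Om c := by rintro _ ⟨q, hq, rfl⟩; exact ι_Ae c hq
  set R₀ := ((Ae (2 ^ a)).map c.ι).subgroupOf (Om c) with hR₀
  have hcard : 2 * Nat.card R₀ = Nat.card ↥(c.S : Subgroup G) := by
    rw [Nat.card_congr (subgroupOfEquivOfLe hle).toEquiv,
      ← Nat.card_congr ((Ae (2 ^ a)).equivMapOfInjective c.ι c.ι_inj).toEquiv, mul_comm]
    have h := (Ae (2 ^ a)).card_mul_index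
    rwa [Ae_index, Nat.card_congr c.e.toEquiv] at h
  have hp : IsPGroup 2 R₀ := by
    obtain ⟨k, hk⟩ := IsPGroup.iff_card.1 c.S.2
    obtain ⟨i, -, hi⟩ := (Nat.dvd_prime_pow Nat.prime_two).1 (show Nat.card R₀ ∣ 2 ^ k from ⟨2, by
      rw [← hk, ← hcard]; ring⟩)
    exact IsPGroup.of_card hi
  obtain ⟨R, hR⟩ := hp.exists_le_sylow
  refine ⟨R, (Subgroup.eq_of_le_of_card_ge hR ?_).symm⟩
  by_contra hlt
  push Not at hlt
  have hHc : (c.S : Subgroup G) ≤ centralizer ({c.ι (t a)} : Set G) := fun q hq => by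
    obtain ⟨q, rfl⟩ := c.exists_ι hq
    rw [mem_centralizer_singleton_iff, ← map_mul, ← map_mul, t_central ha]
  obtain ⟨k, hk, hkS⟩ := Cfsg.Lib.TwoFusion.exists_sylow_conj c.S hHc
    (R.2.map (Om c).subtype) (by
      rintro _ ⟨x, -, rfl⟩
      exact mem_centralizer_singleton_iff.2 ((mem_Om c).1 x.2).1)
  set X := ((R : Subgroup ↥(Om c)).map (Om c).subtype).map (MulAut.conj k).toMonoidHom with hX
  have hXS : X ≤ (c.S : Subgroup G) := by
    rintro _ ⟨x, hx, rfl⟩; exact hkS x hx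
  have hXc : Nat.card X = Nat.card (R : Subgroup ↥(Om c)) :=
    ((Nat.card_congr ((Subgroup.equivMapOfInjective _ _ (Om c).subtype_injective).trans
      (Subgroup.equivMapOfInjective _ _ (MulAut.conj k).injective)).toEquiv)).symm
  have hdvd : Nat.card R₀ ∣ Nat.card X := hXc ▸ card_dvd_of_le hR
  have hXeq : X = (c.S : Subgroup G) := by
    refine Subgroup.eq_of_le_of_card_ge hXS ?_
    rw [← hcard]
    obtain ⟨m, hm⟩ := hdvd
    rw [hm, mul_comm]
    refine Nat.mul_le_mul_left _ ?_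
    rw [← hXc, hm] at hlt
    by_contra h
    push Not at h
    interval_cases m
    all_goals simp at hlt
  have hu : k * c.ι (u a) * k⁻¹ ∈ (c.S : Subgroup G) := by
    refine hkS _ ⟨⟨c.ι (u a), ι_Ae c rfl⟩, hR ?_, rfl⟩
    rw [hR₀, mem_subgroupOf]
    exact ⟨u a, rfl, rfl⟩
  obtain ⟨q, hq⟩ := c.exists_ι hu
  have hqt : q = t a := by
    refine central_invol c.two_le (c.ι_inj ?_) (fun e => ?_) fun g => c.ι_inj ?_
    · rw [map_mul, map_one, hq]
      calc k * c.ι (u a) * k⁻¹ * (k * c.ι (u a) * k⁻¹) = k * (c.ι (u a) * c.ι (u a)) * k⁻¹ := by group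
        _ = 1 := by rw [← map_mul, uu, map_one, mul_one, mul_inv_cancel]
    · rw [e, map_one] at hq
      exact u_ne_one ha (c.ι_inj (by
        rw [map_one]
        exact conj_eq_one_iff.1 hq.symm))
    · rw [map_mul, map_mul, hq]
      obtain ⟨_, ⟨x, hx, rfl⟩, he⟩ := hXeq.ge (c.ι_mem g)
      change k * (x : G) * k⁻¹ = c.ι g at he
      rw [← he]
      have hxu := ((mem_Om c).1 x.2).2
      calc k * (x : G) * k⁻¹ * (k * c.ι (u a) * k⁻¹) = k * ((x : G) * c.ι (u a)) * k⁻¹ := by group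
        _ = k * (c.ι (u a) * (x : G)) * k⁻¹ := by rw [hxu]
        _ = _ := by group
  rw [hqt] at hq
  refine u_ne_t ha (c.ι_inj ?_)
  have h := (mem_centralizer_singleton_iff.1 hk)
  calc c.ι (u a) = k⁻¹ * (k * c.ι (u a) * k⁻¹) * k := by group
    _ = k⁻¹ * (c.ι (t a) * k) := by rw [← hq, mul_assoc]
    _ = _ := by rw [← h, inv_mul_cancel_left]

/-- The odd core of the centraliser, with a retraction onto the Sylow subgroup. -/
theorem omega_compl : ∃ O : Subgroup ↥(Om c), O.Normal ∧ Odd (Nat.card O) ∧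
    ∀ g : ↥(Om c), ∃ q ∈ Ae (2 ^ a), ∃ o ∈ O, (g : G) = c.ι q * (o : G) := by
  classical
  haveI : Fact (Nat.Prime 2) := ⟨Nat.prime_two⟩
  have ha : 1 ≤ a := by have := c.two_le; omega
  obtain ⟨R, hR⟩ := sylow_Om c
  have hmemR : ∀ x : ↥(Om c), x ∈ (R : Subgroup ↥(Om c)) ↔ ∃ q ∈ Ae (2 ^ a), c.ι q = (x : G) := fun x => by
    rw [hR, mem_subgroupOf, Subgroup.mem_map]
  let N : Subgroup ↥(Om c) :=
    { carrier := {x | ∀ M : Subgroup ↥(Om c), M.Normal → M.index = 2 → x ∈ M}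
      one_mem' := fun M _ _ => one_mem M
      mul_mem' := fun hx hy M h1 h2 => mul_mem (hx M h1 h2) (hy M h1 h2)
      inv_mem' := fun hx M h1 h2 => inv_mem (hx M h1 h2) }
  haveI hNn : N.Normal := ⟨fun x hx g M h1 h2 => h1.conj_mem x (hx M h1 h2) g⟩
  have hodd : ∀ x : ↥(Om c), (orderOf x).Coprime 2 → x ∈ N := by
    intro x hx M hM h2
    haveI := hM
    have h : orderOf ((x : ↥(Om c) ⧸ M)) ∣ 2 := by
      have := _root_.orderOf_dvd_natCard ((x : ↥(Om c) ⧸ M))
      rwa [← index_eq_card, h2] at this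
    exact (QuotientGroup.eq_one_iff x).1 (orderOf_eq_one_iff.1
      (Nat.eq_one_of_dvd_coprimes hx (orderOf_map_dvd (QuotientGroup.mk' M) x) h))
  have hfix : ∀ {q : Mdl (2 ^ a)}, q = 1 ∨ q = t a ∨ q = u a ∨ q = t a * u a →
      ∀ g ∈ Om c, g * c.ι q = c.ι q * g := by
    intro q hq g hg
    obtain ⟨h1, h2⟩ := (mem_Om c).1 hg
    rcases hq with rfl | rfl | rfl | rfl
    · simp
    · exact h1
    · exact h2
    · rw [map_mul, ← mul_assoc, h1, mul_assoc, h2, mul_assoc]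
  -- the Sylow part of `N` lies in the homocyclic group
  have hA : ∀ x ∈ (R : Subgroup ↥(Om c)), x ∈ N → ∃ q ∈ Ah (2 ^ a), c.ι q = (x : G) := by
    intro x hx hxN
    obtain ⟨q, hq, hqx⟩ := (hmemR x).1 hx
    cases he : q.e
    · exact ⟨q, ⟨hq, he⟩, hqx⟩
    exfalso
    set Q : Subgroup ↥(Om c) := ((Ah (2 ^ a)).map c.ι).subgroupOf (Om c) with hQ
    have hleA : (Ah (2 ^ a)).map c.ι ≤ (Ae (2 ^ a)).map c.ι := Subgroup.map_mono fun g hg => hg.1
    have hleO : (Ae (2 ^ a)).map c.ι ≤ Om c := by rintro _ ⟨p, hp, rfl⟩; exact ι_Ae c hp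
    have hQi : Q.relIndex (R : Subgroup ↥(Om c)) = 2 := by
      rw [hQ, hR, Subgroup.relIndex_subgroupOf hleO, Subgroup.relIndex_map_map_of_injective _ _ c.ι_inj,
        Ah_index]
    have hq2 : q * q = 1 := by
      obtain ⟨x, y, s, e⟩ := q
      obtain rfl : s = false := hq
      obtain rfl : e = true := he
      ext <;> simp [mul_def, one_def, ax, sg]
    have hq1 : q ≠ 1 := fun e => by rw [e] at he; exact Bool.false_ne_true he
    have hord : orderOf x = 2 := by
      rw [← Subgroup.orderOf_coe, ← hqx]; exact c.order_ι hq2 hq1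
    have hxQ : x ∉ Q := by
      rintro ⟨p, hp, hpx⟩
      have : p = q := c.ι_inj (hpx.trans hqx.symm)
      rw [this] at hp
      exact absurd hp.2 (by rw [he]; decide)
    rcases Cfsg.Agent.S0111.result R Q (by rw [hR]; exact Subgroup.comap_mono hleA) hQi x hord hx hxQ with
      ⟨M, hM, hM2, hxM⟩ | ⟨g, hg⟩
    · exact hxM (hxN M hM hM2)
    · obtain ⟨p, hp, hpx⟩ := hg
      have hp2 : p * p = 1 := c.ι_inj (by
        rw [map_mul, map_one, hpx]
        change ((g * x * g⁻¹ * (g * x * g⁻¹) : ↥(Om c)) : G) = 1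
        rw [show g * x * g⁻¹ * (g * x * g⁻¹) = g * (x * x) * g⁻¹ by group, ← pow_two, ← hord,
          pow_orderOf_eq_one]
        simp)
      have hcomm := hfix (Ah_invol ha hp hp2) _ g.2
      refine hxQ ⟨p, hp, ?_⟩
      rw [hpx] at hcomm ⊢
      have hgx : (g : G) * (g * x * g⁻¹ : ↥(Om c)) = (g * x * g⁻¹ : ↥(Om c)) * g := hcomm
      have : g * (g * x * g⁻¹) = g * x := by
        have h' : g * (g * x * g⁻¹) = g * x * g⁻¹ * g := Subtype.ext hgx
        rwa [inv_mul_cancel_right] at h'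
      exact congrArg Subtype.val (mul_left_cancel this)
  -- the complement of `N`
  obtain ⟨T, hT⟩ := Cfsg.Lib.GWD.sylow_of_inter R N
  have hTA : ∀ x : ↥N, x ∈ (T : Subgroup N) → ∃ q ∈ Ah (2 ^ a), c.ι q = ((x : ↥(Om c)) : G) := fun x hx => by
    have h := hT.le (mem_map_of_mem N.subtype hx)
    exact hA _ h.1 h.2
  have hTc : ∀ x ∈ (T : Subgroup N), ∀ y ∈ (T : Subgroup N), x * y = y * x := fun x hx y hy => by
    obtain ⟨p, hp, hpx⟩ := hTA x hx
    obtain ⟨q, hq, hqy⟩ := hTA y hy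
    refine Subtype.ext (Subtype.ext ?_)
    simp only [Subgroup.coe_mul]
    rw [← hpx, ← hqy, ← map_mul, ← map_mul, Ah_comm hp hq]
  have hburn : normalizer ((T : Subgroup N) : Set N) ≤ centralizer ((T : Subgroup N) : Set N) := by
    intro n hn
    obtain ⟨p, b, rfl, hp, hb, hp2, hb2⟩ := Cfsg.Lib.SquareFreeClasses.exists_parts Nat.prime_two n
    have hzn : zpowers (p * b) ≤ normalizer ((T : Subgroup N) : Set N) := zpowers_le.2 hn
    refine mul_mem ?_ ?_
    · refine mem_centralizer_iff.2 fun x hx => ?_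
      have hpT : p ∈ (T : Subgroup N) := by
        obtain ⟨j, hj⟩ := hp2
        have hP : IsPGroup 2 ↥((T : Subgroup N) ⊔ zpowers p) :=
          IsPGroup.to_sup_of_normal_left' T.2 (IsPGroup.of_card ((Nat.card_zpowers p).trans hj))
            (zpowers_le.2 (hzn hp))
        have := T.3 hP le_sup_left
        exact this.le (mem_sup_right (mem_zpowers p))
      exact hTc x hx p hpT
    · refine mem_centralizer_iff.2 fun x hx => ?_
      suffices H : ∀ k : ℕ, ∀ x ∈ (T : Subgroup N), x ^ 2 ^ k = 1 → x * b = b * x by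
        obtain ⟨k, hk⟩ := T.2 ⟨x, hx⟩
        exact H k x hx (congrArg Subtype.val hk)
      intro k
      induction k with
      | zero => intro x _ h; rw [pow_zero, pow_one] at h; rw [h]; simp
      | succ k ih =>
        intro x hx h
        have hy := ih (x * x) (mul_mem hx hx) (by rwa [← pow_two, ← pow_mul, ← pow_succ'])
        have hbx : b * x * b⁻¹ ∈ (T : Subgroup N) := (mem_normalizer_iff.1 (hzn hb) x).1 hx
        set d := b * x * b⁻¹ * x⁻¹ with hd
        have hdT : d ∈ (T : Subgroup N) := mul_mem hbx (inv_mem hx)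
        have hd2 : d * d = 1 := by
          have hc := hTc _ hbx _ (inv_mem hx)
          calc d * d = b * x * b⁻¹ * (x⁻¹ * (b * x * b⁻¹)) * x⁻¹ := by rw [hd]; group
            _ = b * x * b⁻¹ * (b * x * b⁻¹ * x⁻¹) * x⁻¹ := by rw [hc]
            _ = (b * (x * x) * b⁻¹) * (x * x)⁻¹ := by group
            _ = 1 := by rw [← hy, mul_inv_cancel_right, mul_inv_cancel]
        obtain ⟨q, hq, hqd⟩ := hTA d hdT
        have hq2 : q * q = 1 := c.ι_inj (by
          rw [map_mul, map_one, hqd]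
          exact congrArg (fun z : ↥N => ((z : ↥(Om c)) : G)) hd2)
        have hbd : b * d = d * b := Subtype.ext (Subtype.ext (by
          simp only [Subgroup.coe_mul, ← hqd]
          exact hfix (Ah_invol ha hq hq2) _ (b : ↥(Om c)).2))
        have hi : ∀ i : ℕ, b ^ i * x = d ^ i * x * b ^ i := by
          intro i
          induction i with
          | zero => simp
          | succ i ihi =>
            rw [pow_succ', mul_assoc, ihi, pow_succ d, ← mul_assoc, ← mul_assoc,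
              ((show Commute b d from hbd).pow_right i).eq, mul_assoc (d ^ i) b x,
              show b * x = d * x * b by rw [hd]; group]
            simp only [mul_assoc]
        have h1 := hi (orderOf b)
        rw [pow_orderOf_eq_one, one_mul, mul_one, eq_comm, mul_eq_right] at h1
        have hd1 : d = 1 := orderOf_eq_one_iff.1 (Nat.eq_one_of_dvd_coprimes hb2
          (orderOf_dvd_of_pow_eq_one h1) (orderOf_dvd_of_pow_eq_one (by rw [pow_two]; exact hd2)))
        rw [hd, mul_inv_eq_one, mul_inv_eq_iff_eq_mul] at hd1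
        exact hd1.symm
  obtain ⟨O, hOn, hOc, hOm⟩ := Cfsg.Lib.SquareFreeClasses.hasCompl_of_burnside T hburn
  haveI := hOn
  set O' := O.map N.subtype with hO'
  have hO'c : Nat.card O' = Nat.card O :=
    (Nat.card_congr (O.equivMapOfInjective N.subtype N.subtype_injective).toEquiv).symm
  have hO'm : ∀ x : ↥(Om c), x ∈ O' ↔ (orderOf x).Coprime 2 := by
    intro x
    constructor
    · intro hx
      exact (hO'c ▸ hOc : (Nat.card O').Coprime 2).coprime_dvd_left (Subgroup.orderOf_dvd_natCard _ hx)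
    · intro hx
      refine ⟨⟨x, hodd x hx⟩, hOm _ ?_, rfl⟩
      rwa [← Subgroup.orderOf_coe]
  haveI hO'n : O'.Normal := ⟨fun x hx g => (hO'm _).2 (by
    rw [← MulAut.conj_apply, MulEquiv.orderOf_eq]; exact (hO'm x).1 hx)⟩
  refine ⟨O', hO'n, hO'c ▸ Nat.coprime_two_right.1 hOc, fun g => ?_⟩
  have h2 : IsPGroup 2 (↥(Om c) ⧸ O') := fun z => by
    induction z using QuotientGroup.induction_on with
    | H z =>
      obtain ⟨p, b, rfl, -, -, ⟨j, hj⟩, hb2⟩ := Cfsg.Lib.SquareFreeClasses.exists_parts Nat.prime_two z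
      refine ⟨j, ?_⟩
      rw [QuotientGroup.mk_mul, (QuotientGroup.eq_one_iff b).2 ((hO'm b).2 hb2), mul_one,
        ← QuotientGroup.mk_pow, ← hj, pow_orderOf_eq_one, QuotientGroup.mk_one]
  have htop := ((R.mapSurjective (QuotientGroup.mk'_surjective O')).3 (h2.to_subgroup ⊤) le_top).symm
  obtain ⟨r, hr, hrg⟩ := htop.ge (mem_top ((g : ↥(Om c) ⧸ O')))
  obtain ⟨q, hq, hqr⟩ := (hmemR r).1 hr
  refine ⟨q, hq, r⁻¹ * g, ?_, ?_⟩
  · exact QuotientGroup.eq.1 hrg
  · rw [hqr]; simp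

theorem two_eq_one_of_odd {X : Type*} [Group X] [Finite X] {O : Subgroup X} (hO : Odd (Nat.card O)) {x : X}
    (hx : x ∈ O) {k : ℕ} (h : x ^ 2 ^ k = 1) : x = 1 :=
  orderOf_eq_one_iff.1 (Nat.eq_one_of_dvd_coprimes ((Nat.coprime_two_left.2 hO).pow_left k)
    (orderOf_dvd_of_pow_eq_one h) (Subgroup.orderOf_dvd_natCard _ hx))

/-- Fusion in the centraliser of the four-group is that of the Sylow subgroup. -/
theorem omega_fusion {g : G} (hg : g ∈ Om c) {p q : Mdl (2 ^ a)} (hp : p ∈ Ae (2 ^ a))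
    (hq : q ∈ Ae (2 ^ a)) (h : g * c.ι p * g⁻¹ = c.ι q) : ∃ k ∈ Ae (2 ^ a), k * p * k⁻¹ = q := by
  obtain ⟨O, hOn, hOo, hret⟩ := omega_compl c
  haveI := hOn
  obtain ⟨k, hk, o, ho, hgo⟩ := hret ⟨g, hg⟩
  refine ⟨k, hk, c.ι_inj (mul_inv_eq_one.1 ?_)⟩
  set P : ↥(Om c) := ⟨c.ι p, ι_Ae c hp⟩
  set Q : ↥(Om c) := ⟨c.ι q, ι_Ae c hq⟩
  set K : ↥(Om c) := ⟨c.ι k, ι_Ae c hk⟩
  have hg' : (⟨g, hg⟩ : ↥(Om c)) = K * o := Subtype.ext hgo
  have hPQ : (⟨g, hg⟩ : ↥(Om c)) * P * (⟨g, hg⟩ : ↥(Om c))⁻¹ = Q := Subtype.ext h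
  rw [hg'] at hPQ
  have hmem : K * P * K⁻¹ * Q⁻¹ ∈ O := by
    rw [← QuotientGroup.eq_one_iff, ← hPQ]
    simp only [QuotientGroup.mk_mul, QuotientGroup.mk_inv, (QuotientGroup.eq_one_iff o).2 ho]
    group
  obtain ⟨j, hj⟩ := c.S.2 ⟨_, c.ι_mem (k * p * k⁻¹ * q⁻¹)⟩
  have h1 : K * P * K⁻¹ * Q⁻¹ = 1 := two_eq_one_of_odd hOo hmem (k := j) (Subtype.ext (by
    simpa [P, Q, K] using congrArg Subtype.val hj))
  simpa [P, Q, K] using congrArg Subtype.val h1

/-- A two-group in the centraliser, containing the three involutions and centralising `j`. -/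
theorem omega_two {P : Subgroup G} (hP : IsPGroup 2 P) (hPO : P ≤ Om c) (hT : c.ι (t a) ∈ P)
    (hU : c.ι (u a) ∈ P) (hJ : c.ι (jj a) ∈ P) (hc : ∀ p ∈ P, p * c.ι (jj a) = c.ι (jj a) * p) {p : G}
    (hp : p ∈ P) :
    p ∈ c.ι '' ({1, t a, u a, u' a, jj a, t a * jj a, u a * jj a, u' a * jj a} : Set (Mdl (2 ^ a))) := by
  have ha : 1 ≤ a := by have := c.two_le; omega
  obtain ⟨O, hOn, hOo, hret⟩ := omega_compl c
  haveI := hOn
  obtain ⟨k, hk, o, ho, hpo⟩ := hret ⟨p, hPO hp⟩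
  set K : ↥(Om c) := ⟨c.ι k, ι_Ae c hk⟩
  set J : ↥(Om c) := ⟨c.ι (jj a), ι_Ae c rfl⟩
  have hp' : (⟨p, hPO hp⟩ : ↥(Om c)) = K * o := Subtype.ext hpo
  have hPJ : (⟨p, hPO hp⟩ : ↥(Om c)) * J = J * ⟨p, hPO hp⟩ := Subtype.ext (hc p hp)
  rw [hp'] at hPJ
  have hmem : K * J * K⁻¹ * J⁻¹ ∈ O := by
    rw [← QuotientGroup.eq_one_iff]
    have := congrArg (QuotientGroup.mk' O) hPJ
    simp only [map_mul, QuotientGroup.mk'_apply, (QuotientGroup.eq_one_iff o).2 ho, mul_one] at this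
    simp only [QuotientGroup.mk_mul, QuotientGroup.mk_inv, this]
    group
  obtain ⟨i, hi⟩ := c.S.2 ⟨_, c.ι_mem (k * jj a * k⁻¹ * (jj a)⁻¹)⟩
  have h1 : K * J * K⁻¹ * J⁻¹ = 1 := two_eq_one_of_odd hOo hmem (k := i) (Subtype.ext (by
    simpa [J, K] using congrArg Subtype.val hi))
  have hk8 := eight ha hk (c.ι_inj (by
    rw [map_mul, map_mul]
    have := congrArg Subtype.val (mul_inv_eq_iff_eq_mul.1 (mul_inv_eq_one.1 h1))
    exact this))
  have hkP : c.ι k ∈ P := by
    have hu' : c.ι (u' a) ∈ P := by rw [← t_mul_u, map_mul]; exact mul_mem hT hU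
    simp only [Set.mem_insert_iff, Set.mem_singleton_iff] at hk8
    rcases hk8 with rfl | rfl | rfl | rfl | rfl | rfl | rfl | rfl <;>
      (try simp only [map_mul, map_one]) <;>
      first
        | exact one_mem P
        | assumption
        | exact mul_mem ‹_› hJ
  have hoP : (o : G) ∈ P := by
    have : (o : G) = (c.ι k)⁻¹ * p := by
      have e : p = c.ι k * (o : G) := hpo
      rw [e]; group
    rw [this]; exact mul_mem (inv_mem hkP) hp
  obtain ⟨i', hi'⟩ := hP ⟨_, hoP⟩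
  have ho1 : o = 1 := two_eq_one_of_odd hOo ho (k := i') (Subtype.ext (by
    simpa using congrArg Subtype.val hi'))
  refine ⟨k, hk8, ?_⟩
  have e : p = c.ι k * (o : G) := hpo
  rw [e, ho1]; simp

end Cfsg.Lib.GTwoCent
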