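import Cfsg.Agent.GTwoType.Model
import Cfsg.Agent.GWDihedral.Consumers.QGroup.Quotient

/-!
# The two-group of type `G₂(q)` as an extension of a central product of two quaternion groups

The elements with even coordinate sum form a subgroup of index two, the central product of two
generalised quaternion groups, which are exchanged by an automorphism fixing `t`, `u` and `j`.
-/

set_option autoImplicit false
set_option linter.unusedSimpArgs false
set_option linter.unnecessarySeqFocus false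
set_option linter.unreachableTactic false
set_option linter.unusedTactic false
set_option linter.unusedVariables false

namespace Cfsg.Lib.GTwoCent

open Cfsg.Lib.GTwoType Cfsg.Lib.GTwoType.Mdl

variable {a : ℕ}

/-- The outer involution. -/
abbrev jj (a : ℕ) : Mdl (2 ^ a) := iv (2 ^ a) 1 0

theorem hf_neg' (a : ℕ) : -hf a = hf a := by
  rcases Nat.eq_zero_or_pos a with rfl | ha
  · exact @Subsingleton.elim _ (inferInstanceAs (Subsingleton (ZMod 1))) _ _
  · exact hf_neg ha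

theorem hf_add' (a : ℕ) : hf a + hf a = 0 := neg_eq_iff_add_eq_zero.1 (hf_neg' a)

theorem hf_even (ha : 2 ≤ a) : Even (hf a) := by
  obtain ⟨c, hc⟩ := even_hf ha
  exact ⟨c, hc.symm⟩

theorem not_even_one (ha : 1 ≤ a) : ¬ Even (1 : ZMod (2 ^ a)) := fun ⟨z, hz⟩ => one_ne_double ha z hz.symm

theorem even_or (x : ZMod (2 ^ a)) : Even x ∨ Even (x + 1) := by
  obtain ⟨z, h | h⟩ := parity x
  · exact Or.inl ⟨z, h⟩
  · exact Or.inr ⟨z + 1, by rw [h]; ring⟩

/-- The elements with even coordinate sum. -/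
def M0 (n : ℕ) : Subgroup (Mdl n) where
  carrier := {g | Even (g.x + g.y)}
  one_mem' := by simp [one_def]
  mul_mem' := by
    rintro ⟨x, y, s, e⟩ ⟨x', y', s', e'⟩ ⟨z, hz⟩ ⟨z', hz'⟩
    cases e
    · refine ⟨z + z', ?_⟩
      cases s <;> simp [mul_def, ax, sg] at * <;> linear_combination hz + hz'
    · refine ⟨z - z', ?_⟩
      cases s <;> simp [mul_def, ax, sg] at * <;> linear_combination hz - hz'
  inv_mem' := by
    rintro ⟨x, y, s, e⟩ ⟨z, hz⟩
    cases e
    · refine ⟨-z, ?_⟩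
      cases s <;> simp [inv_def, ax, sg] at * <;> linear_combination -hz
    · refine ⟨z, ?_⟩
      cases s <;> simp [inv_def, ax, sg] at * <;> linear_combination hz

theorem mem_M0 {n : ℕ} {g : Mdl n} : g ∈ M0 n ↔ Even (g.x + g.y) := Iff.rfl

theorem even_mul_xy (g k : Mdl (2 ^ a)) :
    Even ((g * k).x + (g * k).y - (g.x + g.y) - (k.x + k.y)) := by
  obtain ⟨x, y, s, e⟩ := g
  obtain ⟨x', y', s', e'⟩ := k
  cases e
  · refine ⟨0, ?_⟩
    cases s <;> simp [mul_def, ax, sg] <;> ring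
  · refine ⟨-(x' + y'), ?_⟩
    cases s <;> simp [mul_def, ax, sg] <;> ring

theorem M0_normal : (M0 (2 ^ a)).Normal := ⟨fun q hq g => by
  obtain ⟨z, hz⟩ := even_mul_xy (g * q) g⁻¹
  obtain ⟨w, hw⟩ := even_mul_xy g q
  obtain ⟨v, hv⟩ := even_mul_xy g g⁻¹
  obtain ⟨p, hp⟩ := hq
  refine ⟨z + w - v + p, ?_⟩
  simp only [mul_inv_cancel, one_def, add_zero, zero_sub] at hv
  linear_combination hz + hw + hp - hv⟩

theorem mul_mem_M0_of {g k : Mdl (2 ^ a)} (hg : g ∉ M0 (2 ^ a)) (hk : k ∉ M0 (2 ^ a)) :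
    g * k ∈ M0 (2 ^ a) := by
  obtain ⟨p, hp⟩ := (even_or (g.x + g.y)).resolve_left hg
  obtain ⟨q, hq⟩ := (even_or (k.x + k.y)).resolve_left hk
  obtain ⟨w, hw⟩ := even_mul_xy g k
  exact ⟨w + p + q - 1, by linear_combination hw + hp + hq⟩

theorem jj_notMem (ha : 1 ≤ a) : jj a ∉ M0 (2 ^ a) := fun h => not_even_one ha (by
  have h' : Even ((1 : ZMod (2 ^ a)) + 0) := h
  rwa [add_zero] at h')

theorem jj_sq : jj a * jj a = 1 := by ext <;> simp [mul_def, one_def, ax, sg]

theorem jj_u : jj a * u a = u a * jj a := by ext <;> simp [mul_def, ax, sg, hf_neg' a, add_comm]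

theorem t_mem (ha : 2 ≤ a) : t a ∈ M0 (2 ^ a) := ⟨hf a, rfl⟩

theorem u_mem (ha : 2 ≤ a) : u a ∈ M0 (2 ^ a) := by
  rw [mem_M0]; simpa using hf_even ha

theorem tt : t a * t a = 1 := by ext <;> simp [mul_def, one_def, ax, sg, hf_add']

theorem uu : u a * u a = 1 := by ext <;> simp [mul_def, one_def, ax, sg, hf_add']

theorem t_ne_one (ha : 1 ≤ a) : t a ≠ 1 := fun h => hf_ne ha (congrArg Mdl.x h)

theorem u_ne_one (ha : 1 ≤ a) : u a ≠ 1 := fun h => hf_ne ha (congrArg Mdl.x h)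

theorem u_ne_t (ha : 1 ≤ a) : u a ≠ t a := fun h => hf_ne ha (congrArg Mdl.y h).symm

theorem t_mul_u : t a * u a = u' a := by ext <;> simp [mul_def, ax, sg, hf_add']

/-- The first quaternion group. -/
def Q1 (a : ℕ) : Subgroup (Mdl (2 ^ a)) where
  carrier := {g | g.s = g.e ∧ g.x = g.y + if g.s then hf a else 0}
  one_mem' := by simp [one_def]
  mul_mem' := by
    rintro ⟨x, y, s, e⟩ ⟨x', y', s', e'⟩ ⟨h, hg⟩ ⟨h', hg'⟩
    obtain rfl : s = e := h
    obtain rfl : s' = e' := h'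
    have hn := hf_neg' a
    cases s <;> cases s' <;> simp [mul_def, ax, sg] at * <;>
      first
        | linear_combination hg + hg'
        | linear_combination hg + hg' + hf_add' a
  inv_mem' := by
    rintro ⟨x, y, s, e⟩ ⟨h, hg⟩
    obtain rfl : s = e := h
    have hn := hf_neg' a
    cases s <;> simp [inv_def, ax, sg] at * <;>
      first
        | exact hg
        | linear_combination -hg
        | linear_combination -hg + hf_add' a
        | linear_combination hg + hf_add' a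
        | linear_combination -hg - hf_add' a

theorem mem_Q1 {g : Mdl (2 ^ a)} :
    g ∈ Q1 a ↔ g.s = g.e ∧ g.x = g.y + if g.s then hf a else 0 := Iff.rfl

/-- The automorphism exchanging the two quaternion groups. -/
def flip (n : ℕ) : Mdl n ≃* Mdl n where
  toFun g := ⟨g.x, -g.y, g.s, xor g.e g.s⟩
  invFun g := ⟨g.x, -g.y, g.s, xor g.e g.s⟩
  left_inv := by rintro ⟨x, y, s, e⟩; cases s <;> cases e <;> simp
  right_inv := by rintro ⟨x, y, s, e⟩; cases s <;> cases e <;> simp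
  map_mul' := by
    rintro ⟨x, y, s, e⟩ ⟨x', y', s', e'⟩
    cases s <;> cases e <;> cases s' <;> cases e' <;>
      ext <;> simp [mul_def, ax, sg] <;> ring

theorem flip_flip {n : ℕ} (g : Mdl n) : flip n (flip n g) = g := (flip n).left_inv g

theorem flip_t : flip (2 ^ a) (t a) = t a := by ext <;> simp [flip, hf_neg' a]

theorem flip_u : flip (2 ^ a) (u a) = u a := by ext <;> simp [flip]

theorem flip_jj : flip (2 ^ a) (jj a) = jj a := by ext <;> simp [flip]

theorem flip_M0 {g : Mdl (2 ^ a)} : flip (2 ^ a) g ∈ M0 (2 ^ a) ↔ g ∈ M0 (2 ^ a) := by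
  obtain ⟨x, y, s, e⟩ := g
  constructor <;> rintro ⟨z, hz⟩
  · exact ⟨z + y, by simp [flip] at hz ⊢; linear_combination hz⟩
  · exact ⟨z - y, by simp [flip] at hz ⊢; linear_combination hz⟩

/-- The second quaternion group. -/
def Q2 (a : ℕ) : Subgroup (Mdl (2 ^ a)) := (Q1 a).comap (flip (2 ^ a)).toMonoidHom

theorem mem_Q2 {g : Mdl (2 ^ a)} : g ∈ Q2 a ↔ flip (2 ^ a) g ∈ Q1 a := Iff.rfl

theorem Q1_le (ha : 2 ≤ a) : Q1 a ≤ M0 (2 ^ a) := by
  rintro ⟨x, y, s, e⟩ ⟨-, hg⟩
  obtain ⟨c, hc⟩ := even_hf ha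
  cases s <;> simp at hg
  · exact ⟨y, by simp [hg]⟩
  · exact ⟨y + c, by simp [hg]; linear_combination -hc⟩

theorem Q2_le (ha : 2 ≤ a) : Q2 a ≤ M0 (2 ^ a) := fun g hg => flip_M0.1 (Q1_le ha hg)

theorem Q1_normal : (Q1 a).Normal := ⟨by
  rintro ⟨x, y, s, e⟩ ⟨h, hg⟩ ⟨p, q, σ, ε⟩
  obtain rfl : s = e := h
  have hn := hf_neg' a
  refine ⟨?_, ?_⟩
  · cases s <;> cases σ <;> cases ε <;> simp [mul_def, inv_def, ax, sg]
  · cases s <;> cases σ <;> cases ε <;> simp [mul_def, inv_def, ax, sg] at * <;>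
      first
        | linear_combination hg
        | linear_combination -hg
        | linear_combination hg + hf_add' a
        | linear_combination -hg + hf_add' a
        | linear_combination -hg - hf_add' a
        | linear_combination hg - hf_add' a⟩

theorem Q2_normal : (Q2 a).Normal := Q1_normal.comap _

theorem comm_Q {p q : Mdl (2 ^ a)} (hp : p ∈ Q1 a) (hq : q ∈ Q2 a) : p * q = q * p := by
  obtain ⟨x, y, s, e⟩ := p
  obtain ⟨x', y', s', e'⟩ := q
  obtain ⟨h, hg⟩ := hp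
  obtain ⟨h', hg'⟩ := hq
  obtain rfl : s = e := h
  have hn := hf_neg' a
  cases s <;> cases s' <;> cases e' <;> simp [flip] at h' <;> simp [mul_def, ax, sg, flip] at * <;>
    subst hg <;> subst hg' <;> constructor <;>
    first
      | ring1
      | linear_combination hf_add' a
      | linear_combination -hf_add' a

theorem inter_Q (ha : 1 ≤ a) {p : Mdl (2 ^ a)} (h1 : p ∈ Q1 a) (h2 : p ∈ Q2 a) : p = 1 ∨ p = t a := by
  obtain ⟨x, y, s, e⟩ := p
  obtain ⟨h, hg⟩ := h1
  obtain ⟨h', hg'⟩ := h2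
  obtain rfl : s = e := h
  cases s <;> simp [flip] at h' hg hg'
  subst hg
  rcases two_eq_zero ha (x := x) (by linear_combination hg') with rfl | rfl
  · exact Or.inl rfl
  · exact Or.inr rfl

/-- The generators of order four above the bits. -/
abbrev g1 (a : ℕ) : Mdl (2 ^ a) := ⟨hf a, 0, true, true⟩

theorem g1_mem : g1 a ∈ Q1 a := ⟨rfl, by simp⟩

theorem g2_mem : flip (2 ^ a) (g1 a) ∈ Q2 a := by rw [mem_Q2, flip_flip]; exact g1_mem

theorem diag_mem (x : ZMod (2 ^ a)) : (⟨x, x, false, false⟩ : Mdl (2 ^ a)) ∈ Q1 a := ⟨rfl, by simp⟩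

theorem anti_mem (x : ZMod (2 ^ a)) : (⟨x, -x, false, false⟩ : Mdl (2 ^ a)) ∈ Q2 a := ⟨rfl, by simp [flip]⟩

/-- Every element of even coordinate sum is a product. -/
theorem decomp (ha : 2 ≤ a) {g : Mdl (2 ^ a)} (hg : g ∈ M0 (2 ^ a)) :
    ∃ p ∈ Q1 a, ∃ q ∈ Q2 a, g = p * q := by
  obtain ⟨b, hb, b', hb', hbs⟩ : ∃ b ∈ Q1 a, ∃ b' ∈ Q2 a, (b * b').s = g.s ∧ (b * b').e = g.e := by
    obtain ⟨x, y, s, e⟩ := g
    cases e <;> cases s
    · exact ⟨1, one_mem _, 1, one_mem _, by simp [mul_def, one_def]⟩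
    · exact ⟨1, one_mem _, _, g2_mem, by simp [mul_def, one_def, flip]⟩
    · exact ⟨g1 a, g1_mem, _, g2_mem, by simp [mul_def, flip]⟩
    · exact ⟨g1 a, g1_mem, 1, one_mem _, by simp [mul_def, one_def]⟩
  obtain ⟨k, hk, hks, hke⟩ : ∃ k, g = k * (b * b') ∧ k.s = false ∧ k.e = false := by
    refine ⟨g * (b * b')⁻¹, by group, ?_, ?_⟩
    · show xor g.s (b * b').s = false
      rw [hbs.1]; simp
    · show xor g.e (b * b').e = false
      rw [hbs.2]; simp
  have hkM : k ∈ M0 (2 ^ a) := by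
    rw [show k = g * (b * b')⁻¹ by rw [hk]; group]
    exact mul_mem hg (inv_mem (mul_mem (Q1_le ha hb) (Q2_le ha hb')))
  obtain ⟨z, hz⟩ := hkM
  refine ⟨⟨z, z, false, false⟩ * b, mul_mem (diag_mem z) hb,
    ⟨k.x - z, -(k.x - z), false, false⟩ * b', mul_mem (anti_mem _) hb', ?_⟩
  have hk' : k = ⟨z, z, false, false⟩ * ⟨k.x - z, -(k.x - z), false, false⟩ := by
    obtain ⟨x, y, s, e⟩ := k
    simp only at hks hke hz
    subst hks hke
    ext <;> simp [mul_def, ax, sg]
    linear_combination hz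
  rw [hk]
  calc k * (b * b') = ⟨z, z, false, false⟩ * (⟨k.x - z, -(k.x - z), false, false⟩ * b) * b' := by
        nth_rewrite 1 [hk']
        simp only [mul_assoc]
    _ = _ := by rw [← comm_Q hb (anti_mem _)]; simp only [mul_assoc]

theorem Q1_invol (ha : 1 ≤ a) {p : Mdl (2 ^ a)} (hp : p ∈ Q1 a) (h : p * p = 1) : p = 1 ∨ p = t a := by
  obtain ⟨x, y, s, e⟩ := p
  obtain ⟨h', hg⟩ := hp
  obtain rfl : s = e := h'
  cases s <;> simp [mul_def, one_def, ax, sg] at hg h ⊢
  · subst hg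
    rcases two_eq_zero ha h.1 with e | e
    · exact Or.inl ⟨e, e⟩
    · exact Or.inr ⟨e, e⟩
  · exact absurd (by linear_combination h.1 - hg) (hf_ne ha)

theorem Q2_invol (ha : 1 ≤ a) {p : Mdl (2 ^ a)} (hp : p ∈ Q2 a) (h : p * p = 1) : p = 1 ∨ p = t a := by
  rcases Q1_invol ha hp (by rw [← map_mul, h, map_one]) with e | e
  · exact Or.inl ((flip _).injective (e.trans (map_one _).symm))
  · exact Or.inr ((flip _).injective (e.trans flip_t.symm))

theorem Q1_center (ha : 2 ≤ a) {p : Mdl (2 ^ a)} (hp : p ∈ Q1 a) (h : ∀ q ∈ Q1 a, p * q = q * p) :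
    p = 1 ∨ p = t a := by
  refine Q1_invol (by omega) hp ?_
  have h1 := h _ (diag_mem 1)
  have h2 := h _ g1_mem
  obtain ⟨x, y, s, e⟩ := p
  obtain ⟨h', hg⟩ := hp
  obtain rfl : s = e := h'
  have hn := hf_neg' a
  cases s <;> simp [mul_def, one_def, ax, sg] at *
  · subst hg
    constructor <;> linear_combination h2.2
  · exfalso
    have h4 : ((2 : ℕ) : ZMod (2 ^ a)) = 0 := by
      push_cast
      first
        | linear_combination h1.1
        | linear_combination -h1.1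
    rw [ZMod.natCast_eq_zero_iff] at h4
    have := Nat.le_of_dvd two_pos h4
    have : 2 ^ 2 ≤ 2 ^ a := Nat.pow_le_pow_right two_pos ha
    omega

theorem cent_Q2 (ha : 2 ≤ a) {g : Mdl (2 ^ a)} (hg : g ∈ M0 (2 ^ a))
    (h : ∀ q ∈ Q2 a, g * q = q * g) : g ∈ Q1 a := by
  obtain ⟨p, hp, q, hq, rfl⟩ := decomp ha hg
  have hq' : flip (2 ^ a) q = 1 ∨ flip (2 ^ a) q = t a := by
    refine Q1_center ha hq fun r hr => ?_
    have hrQ : flip (2 ^ a) r ∈ Q2 a := by rw [mem_Q2, flip_flip]; exact hr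
    have h1 := h _ hrQ
    have h2 := comm_Q hp hrQ
    have h3 : q * flip (2 ^ a) r = flip (2 ^ a) r * q := mul_left_cancel (a := p) (by
      rw [← mul_assoc, h1, ← mul_assoc, ← h2, mul_assoc])
    have := congrArg (flip (2 ^ a)) h3
    rwa [map_mul, map_mul, flip_flip] at this
  refine mul_mem hp ?_
  rcases hq' with e | e
  · rw [(flip _).injective (e.trans (map_one _).symm)]; exact one_mem _
  · rw [(flip _).injective (e.trans flip_t.symm)]; exact diag_mem _

theorem cent_M0 (ha : 2 ≤ a) {g : Mdl (2 ^ a)} (h : ∀ q ∈ M0 (2 ^ a), g * q = q * g) :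
    g = 1 ∨ g = t a := by
  have hgM : g ∈ M0 (2 ^ a) := by
    have h1 := h _ (Q1_le ha (diag_mem 1))
    have h2 := h _ (Q2_le ha (anti_mem 1))
    obtain ⟨x, y, s, e⟩ := g
    have hne : ((2 : ℕ) : ZMod (2 ^ a)) ≠ 0 := by
      rw [Ne, ZMod.natCast_eq_zero_iff]
      intro h4
      have := Nat.le_of_dvd two_pos h4
      have : 2 ^ 2 ≤ 2 ^ a := Nat.pow_le_pow_right two_pos ha
      omega
    have h3 := h _ (Q1_le ha g1_mem)
    have h5 := h _ (Q2_le ha g2_mem)
    cases s <;> cases e <;> simp [mul_def, ax, sg, flip] at h1 h2 h3 h5 <;>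
      first
        | exact ⟨x, by simp; linear_combination -h5.1⟩
        | exact ⟨x, by simp; linear_combination h5.1⟩
        | exact absurd (by push_cast; linear_combination h1.1) hne
        | exact absurd (by push_cast; linear_combination -h1.1) hne
        | exact absurd (by push_cast; linear_combination h2.1) hne
        | exact absurd (by push_cast; linear_combination -h2.1) hne
  have h1 : g ∈ Q1 a := cent_Q2 ha hgM fun q hq => h q (Q2_le ha hq)
  exact Q1_center ha h1 fun q hq => h q (Q1_le ha hq)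

/-- An involution in the inner part commutes with a square root of `t`. -/
theorem inner_root (ha : 2 ≤ a) {k : Mdl (2 ^ a)} (hk : k * k = 1) (h1 : k ≠ 1) (ht : k ≠ t a)
    (hM : k ∈ M0 (2 ^ a)) : ∃ v, v * k = k * v ∧ v * v = t a := by
  obtain ⟨w, hw, g, rfl⟩ := classes (by omega) hk h1
  have key : ∀ v, v * w = w * v → v * v = t a →
      ∃ v', v' * (g * w * g⁻¹) = g * w * g⁻¹ * v' ∧ v' * v' = t a := fun v hv hv2 =>
    ⟨g * v * g⁻¹, by
      calc g * v * g⁻¹ * (g * w * g⁻¹) = g * (v * w) * g⁻¹ := by group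
        _ = g * (w * v) * g⁻¹ := by rw [hv]
        _ = _ := by group, by
      calc g * v * g⁻¹ * (g * v * g⁻¹) = g * (v * v) * g⁻¹ := by group
        _ = t a := by rw [hv2, t_central (by omega), mul_inv_cancel_right]⟩
  have hwM : w ∈ M0 (2 ^ a) := by
    have h' := M0_normal.conj_mem _ hM g⁻¹
    rwa [show g⁻¹ * (g * w * g⁻¹) * g⁻¹⁻¹ = w by group] at h'
  obtain ⟨c, hc⟩ := even_hf ha
  simp only [Set.mem_insert_iff, Set.mem_singleton_iff] at hw
  rcases hw with rfl | rfl | rfl | rfl | rfl | rfl | rfl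
  · exact absurd (by rw [t_central (by omega), mul_inv_cancel_right]) ht
  · exact key ⟨c, c, false, false⟩ (by ext <;> simp [mul_def, ax, sg, add_comm])
      (by ext <;> simp [mul_def, ax, sg, hc])
  · exact (square_cent ha _ (by simp)).elim fun v hv => key v hv.1 hv.2
  · exact (square_cent ha _ (by simp)).elim fun v hv => key v hv.1 hv.2
  · exact (square_cent ha _ (by simp)).elim fun v hv => key v hv.1 hv.2
  · exact absurd hwM (jj_notMem (by omega))
  · exact (square_cent ha _ (by simp)).elim fun v hv => key v hv.1 hv.2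

theorem outer_conj (ha : 2 ≤ a) {q : Mdl (2 ^ a)} (hq : q * q = 1) (hM : q ∉ M0 (2 ^ a)) :
    ∃ g, g * jj a * g⁻¹ = q := by
  obtain ⟨w, hw, g, rfl⟩ := classes (by omega) hq (fun e => hM (e ▸ one_mem _))
  refine ⟨g, ?_⟩
  suffices w = jj a by rw [this]
  simp only [Set.mem_insert_iff, Set.mem_singleton_iff] at hw
  have hconj : w ∈ M0 (2 ^ a) → False := fun h => hM (M0_normal.conj_mem _ h g)
  rcases hw with rfl | rfl | rfl | rfl | rfl | rfl | rfl
  · exact (hconj (t_mem ha)).elim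
  · exact (hconj (u_mem ha)).elim
  · exact (hconj ⟨0, by simp⟩).elim
  · exact (hconj ⟨0, by simp⟩).elim
  · exact (hconj ⟨0, by simp⟩).elim
  · rfl
  · exact (hconj ⟨1, by simp⟩).elim

/-- A subgroup containing the products of pairs of inner involutions contains the inner part. -/
theorem pairs_gen (ha : 2 ≤ a) (R : Subgroup (Mdl (2 ^ a)))
    (h : ∀ p q : Mdl (2 ^ a), p * p = 1 → q * q = 1 → p ∈ M0 (2 ^ a) → q ∈ M0 (2 ^ a) →
      p ≠ 1 → q ≠ 1 → p ≠ t a → q ≠ t a → p * q ∈ R) : M0 (2 ^ a) ≤ R := by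
  have key : ∀ (x y : ZMod (2 ^ a)) (e e' : Bool),
      (⟨x, if e then x else -x, true, e⟩ : Mdl (2 ^ a)) * ⟨y, if e' then y else -y, true, e'⟩ ∈ R := by
    intro x y e e'
    have hM : ∀ (z : ZMod (2 ^ a)) (ε : Bool), (⟨z, if ε then z else -z, true, ε⟩ : Mdl (2 ^ a)) ∈ M0 (2 ^ a) := by
      intro z ε; cases ε
      · exact ⟨0, by simp⟩
      · exact ⟨z, by simp⟩
    have hsq : ∀ (z : ZMod (2 ^ a)) (ε : Bool), (⟨z, if ε then z else -z, true, ε⟩ : Mdl (2 ^ a)) *
        ⟨z, if ε then z else -z, true, ε⟩ = 1 := by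
      intro z ε; cases ε <;> ext <;> simp [mul_def, one_def, ax, sg]
    refine h _ _ (hsq x e) (hsq y e') (hM x e) (hM y e') ?_ ?_ ?_ ?_ <;>
      exact fun he => Bool.false_ne_true (congrArg Mdl.s he).symm
  have hd : ∀ x : ZMod (2 ^ a), (⟨x, x, false, false⟩ : Mdl (2 ^ a)) ∈ R := fun x => by
    convert key x 0 true true using 1
    ext <;> simp [mul_def, ax, sg]
  have had : ∀ x : ZMod (2 ^ a), (⟨x, -x, false, false⟩ : Mdl (2 ^ a)) ∈ R := fun x => by
    convert key x 0 false false using 1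
    ext <;> simp [mul_def, ax, sg]
  have he : iv (2 ^ a) 0 0 ∈ R := by
    convert key 0 0 false true using 1
    ext <;> simp [mul_def, ax, sg]
  have hiv : iv (2 ^ a) 1 1 ∈ R := by
    convert mul_mem (hd 1) he using 1
    ext <;> simp [mul_def, ax, sg]
  have hr : r (2 ^ a) ∈ R := by
    -- `r * iv 1 1` and `r' * iv 1 1` are pairs as well
    have h1 : r (2 ^ a) * iv (2 ^ a) 1 1 ∈ R := by
      refine h _ _ (by ext <;> simp [mul_def, one_def, ax, sg]) (by ext <;> simp [mul_def, one_def, ax, sg])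
        ⟨0, by simp⟩ ⟨1, by simp⟩ ?_ ?_ ?_ ?_ <;>
        first
          | exact fun e => Bool.false_ne_true (congrArg Mdl.s e).symm
          | exact fun e => Bool.false_ne_true (congrArg Mdl.e e).symm
    have h2 := mul_mem h1 (inv_mem hiv)
    rwa [mul_inv_cancel_right] at h2
  intro g hg
  obtain ⟨z, hz⟩ := hg
  obtain ⟨x, y, s, e⟩ := g
  have h0 : (⟨x, y, false, false⟩ : Mdl (2 ^ a)) ∈ R := by
    convert mul_mem (hd z) (had (x - z)) using 1
    ext <;> simp [mul_def, ax, sg]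
    simp at hz; linear_combination hz
  cases s <;> cases e
  · exact h0
  · convert mul_mem h0 he using 1; ext <;> simp [mul_def, ax, sg]
  · convert mul_mem h0 hr using 1; ext <;> simp [mul_def, ax, sg]
  · convert mul_mem h0 (mul_mem hr he) using 1; ext <;> simp [mul_def, ax, sg]

/-- The centre. -/
theorem central_invol (ha : 2 ≤ a) {q : Mdl (2 ^ a)} (hq : q * q = 1) (h1 : q ≠ 1)
    (hc : ∀ g, g * q = q * g) : q = t a :=
  (cent_M0 ha fun g _ => (hc g).symm).resolve_left h1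

/-- The quaternion group of a root of `t`. -/
theorem Q1_gen {p : Mdl (2 ^ a)} (hp : p ∈ Q1 a) :
    p * p = t a ∨ ∃ q r, q ∈ Q1 a ∧ r ∈ Q1 a ∧ q * q = t a ∧ r * r = t a ∧ p = q * r := by
  obtain ⟨x, y, s, e⟩ := p
  obtain ⟨h, hg⟩ := hp
  obtain rfl : s = e := h
  cases s <;> simp at hg <;> subst hg
  · right
    refine ⟨⟨x, x + hf a, true, true⟩, ⟨hf a, 0, true, true⟩, ⟨rfl, by simp [add_assoc, hf_add' a]⟩, g1_mem, ?_, ?_, ?_⟩ <;>
      ext <;> simp [mul_def, ax, sg, hf_neg' a, add_assoc, hf_add' a]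
  · left
    ext <;> simp [mul_def, ax, sg, hf_neg' a, add_assoc]

theorem sq_two (h2 : a = 2) {p : Mdl (2 ^ a)} (hp : p ∈ Q1 a) (h1 : p ≠ 1) (ht : p ≠ t a) :
    p * p = t a := by
  subst h2
  revert h1 ht
  obtain ⟨x, y, s, e⟩ := p
  obtain ⟨h, hg⟩ := hp
  obtain rfl : s = e := h
  simp only at hg
  revert hg
  revert x y s
  decide

/-- An element of the outer coset acting on the first quaternion group with a fourth power outside the centre. -/
theorem outer_four (ha : 3 ≤ a) : ∃ w : Mdl (2 ^ a), w ^ 4 ∈ Q1 a ∧ w ^ 4 ≠ 1 ∧ w ^ 4 ≠ t a := by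
  refine ⟨⟨1, 0, true, false⟩, ?_⟩
  have h4 : (⟨1, 0, true, false⟩ : Mdl (2 ^ a)) ^ 4 = ⟨2, 2, false, false⟩ := by
    rw [pow_succ, pow_succ, pow_succ, pow_one]
    ext <;> simp [mul_def, ax, sg] <;> ring
  rw [h4]
  have hpow : 2 ^ 3 ≤ 2 ^ a := Nat.pow_le_pow_right two_pos ha
  refine ⟨diag_mem 2, fun h => ?_, fun h => ?_⟩
  · have h2 : ((2 : ℕ) : ZMod (2 ^ a)) = 0 := by exact_mod_cast congrArg Mdl.x h
    rw [ZMod.natCast_eq_zero_iff] at h2
    have := Nat.le_of_dvd two_pos h2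
    omega
  · have h2 : ((4 : ℕ) : ZMod (2 ^ a)) = 0 := by
      have hx : (2 : ZMod (2 ^ a)) = hf a := congrArg Mdl.x h
      push_cast
      linear_combination 2 * hx + hf_add' a
    rw [ZMod.natCast_eq_zero_iff] at h2
    have := Nat.le_of_dvd (by norm_num) h2
    omega

theorem not_comm_mod (ha : 3 ≤ a) : ∃ p ∈ Q1 a, ∃ q ∈ Q1 a, p * q * p⁻¹ * q⁻¹ ≠ 1 ∧ p * q * p⁻¹ * q⁻¹ ≠ t a := by
  refine ⟨_, g1_mem, _, diag_mem 1, ?_⟩
  have hc : g1 a * ⟨1, 1, false, false⟩ * (g1 a)⁻¹ * (⟨1, 1, false, false⟩ : Mdl (2 ^ a))⁻¹ =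
      ⟨-2, -2, false, false⟩ := by
    ext <;> simp [mul_def, inv_def, ax, sg, hf_neg' a] <;> first | ring1 | linear_combination hf_add' a
  rw [hc]
  have hpow : 2 ^ 3 ≤ 2 ^ a := Nat.pow_le_pow_right two_pos ha
  refine ⟨fun h => ?_, fun h => ?_⟩
  · have h2 : ((2 : ℕ) : ZMod (2 ^ a)) = 0 := by
      have hx : (-2 : ZMod (2 ^ a)) = 0 := congrArg Mdl.x h
      push_cast
      linear_combination -hx
    rw [ZMod.natCast_eq_zero_iff] at h2
    have := Nat.le_of_dvd two_pos h2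
    omega
  · have h2 : ((4 : ℕ) : ZMod (2 ^ a)) = 0 := by
      have hx : (-2 : ZMod (2 ^ a)) = hf a := congrArg Mdl.x h
      push_cast
      linear_combination -2 * hx - hf_add' a
    rw [ZMod.natCast_eq_zero_iff] at h2
    have := Nat.le_of_dvd (by norm_num) h2
    omega

/-- The quaternion structure. -/
theorem quat_iso {k : ℕ} : Nonempty (QuaternionGroup (2 ^ (k + 1)) ≃* ↥(Q1 (k + 2))) := by
  have hm : 2 * 2 ^ (k + 1) = 2 ^ (k + 2) := (pow_succ' 2 (k + 1)).symm
  let c := ZMod.ringEquivCongr hm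
  have hc : c ((2 ^ (k + 1) : ℕ) : ZMod (2 * 2 ^ (k + 1))) = hf (k + 2) := by
    rw [map_natCast, hf]; norm_cast
  let φ : QuaternionGroup (2 ^ (k + 1)) → Mdl (2 ^ (k + 2))
    | .a i => ⟨c i, c i, false, false⟩
    | .xa i => ⟨hf (k + 2) - c i, -c i, true, true⟩
  have hmem : ∀ q, φ q ∈ Q1 (k + 2) := by
    rintro (i | i)
    · exact diag_mem _
    · exact ⟨rfl, by simp [φ]; ring⟩
  let ψ : QuaternionGroup (2 ^ (k + 1)) →* ↥(Q1 (k + 2)) := MonoidHom.mk' (fun q => ⟨φ q, hmem q⟩) <| by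
    rintro (i | i) (j | j) <;> apply Subtype.ext
    · show φ (.a (i + j)) = φ (.a i) * φ (.a j)
      ext <;> simp [φ, mul_def, ax, sg]
    · show φ (.xa (j - i)) = φ (.a i) * φ (.xa j)
      ext <;> simp [φ, mul_def, ax, sg] <;> ring
    · show φ (.xa (i + j)) = φ (.xa i) * φ (.a j)
      ext <;> simp [φ, mul_def, ax, sg] <;> ring
    · show φ (.a ((2 ^ (k + 1) : ℕ) + j - i)) = φ (.xa i) * φ (.xa j)
      ext <;> simp only [φ, mul_def, ax, sg, map_add, map_sub, hc] <;> simp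
      · ring
      · linear_combination hf_add' (k + 2)
  refine ⟨MulEquiv.ofBijective ψ ⟨?_, ?_⟩⟩
  · rintro (i | i) (j | j) h <;> have h' := congrArg Subtype.val h
    · exact congrArg QuaternionGroup.a (c.injective (congrArg Mdl.x h'))
    · exact absurd (congrArg Mdl.s h') Bool.false_ne_true
    · exact absurd (congrArg Mdl.s h').symm Bool.false_ne_true
    · exact congrArg QuaternionGroup.xa (c.injective (neg_injective (congrArg Mdl.y h')))
  · rintro ⟨⟨x, y, s, e⟩, h, hg⟩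
    obtain rfl : s = e := h
    cases s <;> simp at hg
    · refine ⟨.a (c.symm x), Subtype.ext ?_⟩
      show φ (.a (c.symm x)) = _
      ext <;> simp [φ, hg]
    · refine ⟨.xa (c.symm (-y)), Subtype.ext ?_⟩
      show φ (.xa (c.symm (-y))) = _
      ext <;> simp [φ, hg, add_comm]

theorem Q1_card (ha : 2 ≤ a) : Nat.card ↥(Q1 a) = 2 * 2 ^ a := by
  obtain ⟨k, rfl⟩ : ∃ k, a = k + 2 := ⟨a - 2, by omega⟩
  obtain ⟨e⟩ := quat_iso (k := k)
  rw [← Nat.card_congr e.toEquiv, Nat.card_eq_fintype_card, QuaternionGroup.card]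
  rw [pow_succ 2 (k + 1)]
  ring

/-- The part centralising `u`. -/
theorem s_of_comm_u (ha : 1 ≤ a) {g : Mdl (2 ^ a)} (h : g * u a = u a * g) : g.s = false := by
  obtain ⟨x, y, s, e⟩ := g
  cases s
  · rfl
  · exfalso
    cases e <;> simp [mul_def, ax, sg, hf_neg' a] at h <;>
      first
        | exact hf_ne ha h
        | exact hf_ne ha (by linear_combination h.2)
        | exact hf_ne ha (by linear_combination -h.1)
        | exact hf_ne ha (by linear_combination h.1)

theorem comm_u_of_s {g : Mdl (2 ^ a)} (h : g.s = false) : g * u a = u a * g := by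
  obtain ⟨x, y, s, e⟩ := g
  obtain rfl : s = false := h
  cases e <;> ext <;> simp [mul_def, ax, sg, hf_neg' a, add_comm]

/-- The parity of the second coordinate is invariant for inversions. -/
theorem parity_conj {g : Mdl (2 ^ a)} (hs : g.s = false) {x y x' y' : ZMod (2 ^ a)}
    (h : g * iv (2 ^ a) x y * g⁻¹ = iv (2 ^ a) x' y') : Even (y - y') := by
  rw [conj_eq_iff] at h
  obtain ⟨p, q, s, e⟩ := g
  obtain rfl : s = false := hs
  cases e <;> simp [mul_def, ax, sg] at h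
  · exact ⟨-q, by linear_combination h.2⟩
  · exact ⟨y - q, by linear_combination h.2⟩

theorem eight (ha : 1 ≤ a) {g : Mdl (2 ^ a)} (hs : g.s = false) (h : g * jj a = jj a * g) :
    g ∈ ({1, t a, u a, u' a, jj a, t a * jj a, u a * jj a, u' a * jj a} : Set (Mdl (2 ^ a))) := by
  obtain ⟨x, y, s, e⟩ := g
  obtain rfl : s = false := hs
  have hn := hf_neg' a
  cases e <;> simp [mul_def, ax, sg] at h
  · rcases two_eq_zero ha (x := x) (by linear_combination h.1) with rfl | rfl <;>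
      rcases two_eq_zero ha (x := y) (by linear_combination h.2) with rfl | rfl <;> simp [one_def]
  · rcases two_eq_zero ha (x := x - 1) (by linear_combination h.1) with hx | hx <;>
      rcases two_eq_zero ha (x := y) (by linear_combination h.2) with rfl | rfl <;>
      obtain rfl := eq_add_of_sub_eq hx <;>
      simp [mul_def, ax, sg]

theorem translation (ha : 2 ≤ a) : ∃ v : Mdl (2 ^ a), v * u a = u a * v ∧ v * jj a * v⁻¹ = t a * jj a := by
  obtain ⟨c, hc⟩ := even_hf ha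
  refine ⟨⟨c, c, false, false⟩, comm_u_of_s rfl, ?_⟩
  rw [conj_eq_iff]
  ext <;> simp [mul_def, ax, sg] <;> linear_combination hc

end Cfsg.Lib.GTwoCent
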