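import Cfsg.Agent.GTwoCent.Fusion
import Cfsg.Agent.GWDihedral.Consumers.QGroup.Quotient
import Cfsg.Agent.Components.PComponents

/-!
# The centraliser modulo its odd core

The setting: no odd core, a central involution `t`, a normal subgroup of index two meeting the Sylow
subgroup in the inner part, and all inner involutions other than `t` fused in it.
-/

set_option autoImplicit false
set_option linter.style.haveILetI false
set_option linter.unusedSectionVars false

namespace Cfsg.Lib.GTwoCent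

open Subgroup
open Cfsg.Lib.GTwoType Cfsg.Lib.GTwoType.Mdl

universe v

theorem M0_index {a : ℕ} (ha : 1 ≤ a) : (M0 (2 ^ a)).index = 2 :=
  Subgroup.index_eq_two_iff.2 ⟨jj a, fun b => by
    by_cases hb : b ∈ M0 (2 ^ a)
    · refine Or.inr ⟨hb, fun h => jj_notMem ha ?_⟩
      simpa using mul_mem (inv_mem hb) h
    · exact Or.inl ⟨mul_mem_M0_of hb (jj_notMem ha), hb⟩⟩

/-- The centraliser modulo its odd core. -/
structure Core (H : Type v) [Group H] (a : ℕ) extends Typed H a where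
  K : Subgroup H
  K_normal : K.Normal
  K_index : K.index = 2
  mem_K : ∀ q, toTyped.ι q ∈ K ↔ q ∈ M0 (2 ^ a)
  central : toTyped.ι (t a) ∈ center H
  noOdd : Cfsg.Lib.GenDihedral.NoOdd H
  fused : ∀ k : Mdl (2 ^ a), k * k = 1 → k ≠ 1 → k ≠ t a → k ∈ M0 (2 ^ a) →
    ∃ g ∈ K, g * toTyped.ι k * g⁻¹ = toTyped.ι (u a)

namespace Core

variable {H : Type v} [Group H] [Finite H] {a : ℕ} (c : Core H a)

/-- The model inside the group. -/
abbrev ι : Mdl (2 ^ a) →* H := c.toTyped.ι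

theorem ha (c : Core H a) : 1 ≤ a := le_trans one_le_two c.two_le

/-- The setting with the two quaternion groups exchanged. -/
def flip : Core H a where
  S := c.S
  e := (GTwoCent.flip (2 ^ a)).trans c.e
  two_le := c.two_le
  K := c.K
  K_normal := c.K_normal
  K_index := c.K_index
  mem_K q := (c.mem_K (GTwoCent.flip (2 ^ a) q)).trans flip_M0
  central := by
    show c.ι (GTwoCent.flip (2 ^ a) (t a)) ∈ center H
    rw [flip_t]; exact c.central
  noOdd := c.noOdd
  fused k hk h1 ht hM := by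
    obtain ⟨g, hg, h⟩ := c.fused (GTwoCent.flip (2 ^ a) k) (by rw [← map_mul, hk, map_one])
      (fun e => h1 ((GTwoCent.flip (2 ^ a)).injective (e.trans (map_one _).symm)))
      (fun e => ht ((GTwoCent.flip (2 ^ a)).injective (e.trans flip_t.symm))) (flip_M0.2 hM)
    refine ⟨g, hg, ?_⟩
    show g * c.ι (GTwoCent.flip (2 ^ a) k) * g⁻¹ = c.ι (GTwoCent.flip (2 ^ a) (u a))
    rw [flip_u]; exact h

theorem flip_ι (q : Mdl (2 ^ a)) : c.flip.ι q = c.ι (GTwoCent.flip (2 ^ a) q) := rfl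

theorem flip_K : c.flip.K = c.K := rfl

theorem flip_t_eq : c.flip.ι (t a) = c.ι (t a) := by rw [flip_ι, flip_t]

theorem comm_t (h : H) : h * c.ι (t a) = c.ι (t a) * h := mem_center_iff.1 c.central h

theorem t_mem_K : c.ι (t a) ∈ c.K := (c.mem_K _).2 (t_mem c.two_le)

theorem mem_or (g : H) : g ∈ c.K ∨ c.ι (jj a) * g ∈ c.K := by
  haveI := c.K_normal
  by_cases hg : g ∈ c.K
  · exact Or.inl hg
  · refine Or.inr ((mul_mem_iff_of_index_two c.K_index).2 ?_)
    exact iff_of_false (fun h => jj_notMem c.ha ((c.mem_K _).1 h)) hg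

/-- All inner involutions other than `t` are conjugate in the subgroup of index two. -/
theorem fused_pair {k l : Mdl (2 ^ a)} (hk : k * k = 1) (hk1 : k ≠ 1) (hkt : k ≠ t a)
    (hkM : k ∈ M0 (2 ^ a)) (hl : l * l = 1) (hl1 : l ≠ 1) (hlt : l ≠ t a) (hlM : l ∈ M0 (2 ^ a)) :
    ∃ g ∈ c.K, g * c.ι k * g⁻¹ = c.ι l := by
  obtain ⟨g, hg, hg'⟩ := c.fused k hk hk1 hkt hkM
  obtain ⟨h, hh, hh'⟩ := c.fused l hl hl1 hlt hlM
  refine ⟨h⁻¹ * g, mul_mem (inv_mem hh) hg, ?_⟩
  calc h⁻¹ * g * c.ι k * (h⁻¹ * g)⁻¹ = h⁻¹ * (g * c.ι k * g⁻¹) * h := by group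
    _ = c.ι l := by rw [hg', ← hh']; group

/-- A normal subgroup meeting the Sylow subgroup in the centre is central. -/
theorem le_center_of_inter {R : Subgroup H} [hR : R.Normal]
    (h : ∀ q, c.ι q ∈ R → q = 1 ∨ q = t a) : R ≤ zpowers (c.ι (t a)) := by
  haveI : Fact (Nat.Prime 2) := ⟨Nat.prime_two⟩
  have hsmall : ∀ x ∈ R, x ∈ (c.S : Subgroup H) → x ∈ zpowers (c.ι (t a)) := fun x hx hxS => by
    obtain ⟨q, rfl⟩ := c.toTyped.exists_ι hxS
    rcases h q hx with rfl | rfl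
    · exact (map_one c.ι).symm ▸ one_mem _
    · exact mem_zpowers _
  obtain ⟨W, hW⟩ := Cfsg.Lib.GWD.sylow_of_inter c.S R
  have h4 : ¬ 4 ∣ Nat.card R := fun h4 => by
    obtain ⟨V, hV⟩ := Sylow.exists_subgroup_card_pow_prime (G := R) 2 (n := 2) (by simpa using h4)
    obtain ⟨W', hW'⟩ := (IsPGroup.of_card hV).exists_le_sylow
    have h1 : Nat.card V ≤ Nat.card (W : Subgroup R) := by
      rw [Nat.card_congr (Sylow.equiv W W').toEquiv]; exact Subgroup.card_le_of_le hW'
    have h2 : Nat.card (W : Subgroup R) ≤ Nat.card (zpowers (c.ι (t a))) := by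
      rw [Nat.card_congr ((W : Subgroup R).equivMapOfInjective _ R.subtype_injective).toEquiv]
      exact Subgroup.card_le_of_le (hW.le.trans fun x hx => hsmall x hx.2 hx.1)
    rw [Nat.card_zpowers, c.toTyped.order_ι tt (t_ne_one c.ha)] at h2
    rw [hV] at h1
    omega
  have hp : IsPGroup 2 R := by
    by_cases h2 : 2 ∣ Nat.card R
    · exact IsPGroup.of_card (n := 1)
        (Cfsg.Lib.GWD.card_two_of (Cfsg.Lib.GenDihedral.noOdd_sub c.noOdd R) h2 h4)
    · rw [c.noOdd R hR (Nat.odd_iff.2 (Nat.two_dvd_ne_zero.1 h2))]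
      exact IsPGroup.of_bot
  exact fun x hx => hsmall x hx (Cfsg.Lib.CyclicInter.mem_of_normal hp c.S hx)

end Core

/-- An element centralising both quaternion groups in the Sylow subgroup is central. -/
theorem cent_both {a : ℕ} (ha : 2 ≤ a) {q : Mdl (2 ^ a)} (h1 : ∀ p ∈ Q1 a, q * p = p * q) (h2 : ∀ p ∈ Q2 a, q * p = p * q) :
    q = 1 ∨ q = t a := by
  refine cent_M0 ha fun g hg => ?_
  obtain ⟨p, hp, r, hr, rfl⟩ := decomp ha hg
  rw [← mul_assoc, h1 p hp, mul_assoc, h2 r hr, mul_assoc]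

/-- The setting from a group with one class of involutions. -/
theorem exists_core {G : Type v} [Group G] [Finite G] {a : ℕ} (c : Typed G a)
    (h1 : ∀ x y : G, orderOf x = 2 → orderOf y = 2 → IsConj x y) :
    Nonempty (Core (↥(centralizer ({c.ι (t a)} : Set G)) ⧸
      Cfsg.oddCore ↥(centralizer ({c.ι (t a)} : Set G))) a) := by
  classical
  haveI : Fact (Nat.Prime 2) := ⟨Nat.prime_two⟩
  have ha : 1 ≤ a := by have := c.two_le; omega
  set C := centralizer ({c.ι (t a)} : Set G) with hC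
  have hSC : (c.S : Subgroup G) ≤ C := fun q hq => by
    obtain ⟨q, rfl⟩ := c.exists_ι hq
    exact mem_centralizer_singleton_iff.2 (commute_T c q)
  let φ : Mdl (2 ^ a) →* C := c.ι.codRestrict C fun q => hSC (c.ι_mem q)
  have hφv : ∀ q, ((φ q : C) : G) = c.ι q := fun _ => rfl
  have hφi : Function.Injective φ := fun p q h => c.ι_inj (a₁ := p) (a₂ := q) (show ((φ p : C) : G) = ((φ q : C) : G) by rw [h])
  set P : Sylow 2 C := c.S.subtype hSC
  have hφP : φ.range = (P : Subgroup C) := by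
    refine le_antisymm ?_ fun x hx => ?_
    · rintro _ ⟨q, rfl⟩; exact c.ι_mem q
    · obtain ⟨q, hq⟩ := c.exists_ι (g := (x : G)) hx
      exact ⟨q, Subtype.ext hq⟩
  have hfused : ∀ k : Mdl (2 ^ a), k * k = 1 → k ≠ 1 → k ≠ t a → k ∈ M0 (2 ^ a) →
      ∃ g : C, g * φ k * g⁻¹ = φ (u a) := fun k hk hk1 hkt hM => by
    obtain ⟨g, hg, hg'⟩ := inner_fused c h1 hk hk1 hkt hM
    exact ⟨⟨g, mem_centralizer_singleton_iff.2 hg⟩, Subtype.ext hg'⟩
  -- the normal subgroup of index two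
  set Q : Subgroup C := (M0 (2 ^ a)).map φ with hQ
  have hQP : Q ≤ (P : Subgroup C) := hφP ▸ Subgroup.map_le_range _ _
  have hQi : Q.relIndex (P : Subgroup C) = 2 := by
    rw [← hφP, MonoidHom.range_eq_map, hQ, Subgroup.relIndex_map_map_of_injective _ _ hφi,
      relIndex_top_right, M0_index ha]
  have hjord : orderOf (φ (jj a)) = 2 := by
    rw [orderOf_injective φ hφi]
    exact orderOf_eq_prime (by rw [pow_two, jj_sq]) (fun e => jj_notMem ha (e ▸ one_mem _))
  have hjQ : φ (jj a) ∉ Q := by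
    rintro ⟨q, hq, he⟩
    exact jj_notMem ha (hφi he ▸ hq)
  obtain ⟨M, hMn, hM2, hjM⟩ : ∃ M : Subgroup C, M.Normal ∧ M.index = 2 ∧ φ (jj a) ∉ M := by
    rcases Cfsg.Agent.S0111.result P Q hQP hQi (φ (jj a)) hjord (hφP ▸ ⟨jj a, rfl⟩) hjQ with h | ⟨g, hg⟩
    · exact h
    · obtain ⟨k, hk, he⟩ := hg
      exact (outer_not_fused c h1 (g := (g : G)) (mem_centralizer_singleton_iff.1 g.2) hk
        (congrArg Subtype.val he).symm).elim
  haveI := hMn
  have hM0 : M0 (2 ^ a) ≤ M.comap φ := by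
    refine pairs_gen c.two_le _ fun p q hp hq hpM hqM hp1 hq1 hpt hqt => ?_
    obtain ⟨g, hg⟩ := hfused p hp hp1 hpt hpM
    obtain ⟨h, hh⟩ := hfused q hq hq1 hqt hqM
    rw [mem_comap, map_mul, mul_mem_iff_of_index_two hM2]
    constructor
    · intro hm
      have hu : φ (u a) ∈ M := hg ▸ hMn.conj_mem _ hm g
      have := hMn.conj_mem _ hu h⁻¹
      rwa [← hh, show h⁻¹ * (h * φ q * h⁻¹) * h⁻¹⁻¹ = φ q by group] at this
    · intro hm
      have hu : φ (u a) ∈ M := hh ▸ hMn.conj_mem _ hm h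
      have := hMn.conj_mem _ hu g⁻¹
      rwa [← hg, show g⁻¹ * (g * φ p * g⁻¹) * g⁻¹⁻¹ = φ p by group] at this
  have hMiff : ∀ q, φ q ∈ M ↔ q ∈ M0 (2 ^ a) := fun q => by
    refine ⟨fun h => ?_, fun h => hM0 h⟩
    by_contra hq
    have h' : φ (q * jj a) ∈ M := hM0 (mul_mem_M0_of hq (jj_notMem ha))
    rw [map_mul] at h'
    refine hjM ?_
    have := mul_mem (inv_mem h) h'
    rwa [inv_mul_cancel_left] at this
  -- the quotient
  set O := Cfsg.oddCore C with hO
  set π := QuotientGroup.mk' O with hπ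
  have hπs : Function.Surjective π := QuotientGroup.mk'_surjective _
  have hOodd : Odd (Nat.card O) :=
    Nat.coprime_two_right.1 (Cfsg.Lib.Components.coprime_card_pPrimeCore 2)
  have hOM : O ≤ M := fun x hx => by
    have h : orderOf (x : C ⧸ M) ∣ 2 := by
      have := _root_.orderOf_dvd_natCard (x : C ⧸ M)
      rwa [← index_eq_card, hM2] at this
    refine (QuotientGroup.eq_one_iff x).1 (orderOf_eq_one_iff.1 (Nat.eq_one_of_dvd_coprimes ?_
      (orderOf_map_dvd (QuotientGroup.mk' M) x) h))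
    exact (Nat.coprime_two_right.2 hOodd).coprime_dvd_left (Subgroup.orderOf_dvd_natCard _ hx)
  set ψ : Mdl (2 ^ a) →* C ⧸ O := π.comp φ with hψ
  have hψi : Function.Injective ψ := (injective_iff_map_eq_one ψ).2 fun q hq => by
    have hqO : φ q ∈ O := (QuotientGroup.eq_one_iff _).1 hq
    obtain ⟨i, hi⟩ := P.2 ⟨φ q, hφP ▸ ⟨q, rfl⟩⟩
    refine hφi ((two_eq_one_of_odd hOodd hqO (k := i) ?_).trans (map_one φ).symm)
    exact congrArg Subtype.val hi
  set P' : Sylow 2 (C ⧸ O) := P.mapSurjective hπs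
  have hψP : ψ.range = (P' : Subgroup (C ⧸ O)) := by
    rw [hψ, MonoidHom.range_comp, hφP]; rfl
  let T' : Typed (C ⧸ O) a := ⟨P', (MonoidHom.ofInjective hψi).trans (MulEquiv.subgroupCongr hψP), c.two_le⟩
  have hι : ∀ q, T'.ι q = ψ q := fun q => rfl
  refine ⟨{ toTyped := T', K := M.map π, K_normal := inferInstanceAs (M.map π).Normal, K_index := ?_,
            mem_K := fun q => ?_, central := ?_, noOdd := ?_, fused := ?_ }⟩
  · rw [index_map_eq _ hπs (by rw [hπ, QuotientGroup.ker_mk']; exact hOM), hM2]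
  · rw [hι, ← hMiff q, hψ, MonoidHom.comp_apply, ← mem_comap, comap_map_eq_self
      (by rw [hπ, QuotientGroup.ker_mk']; exact hOM)]
  · refine mem_center_iff.2 fun x => ?_
    obtain ⟨g, rfl⟩ := hπs x
    rw [hι, hψ, MonoidHom.comp_apply, ← map_mul, ← map_mul]
    refine congrArg π (Subtype.ext ?_)
    simp only [Subgroup.coe_mul, hφv]
    exact mem_centralizer_singleton_iff.1 g.2
  · intro N hN hodd
    have := @Cfsg.Lib.Components.le_pPrimeCore _ _ 2 N hN (Nat.coprime_two_right.2 hodd)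
    rw [Cfsg.Lib.Components.pPrimeCore_quotient_eq_bot] at this
    exact le_bot_iff.1 this
  · intro k hk hk1 hkt hM
    obtain ⟨g, hg⟩ := hfused k hk hk1 hkt hM
    by_cases hgM : g ∈ M
    · exact ⟨π g, mem_map_of_mem π hgM, by rw [hι, hι, hψ, MonoidHom.comp_apply, MonoidHom.comp_apply,
        ← map_inv, ← map_mul, ← map_mul, hg]⟩
    · refine ⟨π (φ (jj a) * g), mem_map_of_mem π ((mul_mem_iff_of_index_two hM2).2 (iff_of_false hjM hgM)), ?_⟩
      rw [hι, hι, hψ, MonoidHom.comp_apply, MonoidHom.comp_apply, ← map_inv, ← map_mul, ← map_mul]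
      refine congrArg π ?_
      calc φ (jj a) * g * φ k * (φ (jj a) * g)⁻¹ = φ (jj a) * (g * φ k * g⁻¹) * (φ (jj a))⁻¹ := by group
        _ = φ (u a) := by rw [hg, ← map_mul, jj_u, map_mul, mul_inv_cancel_right]

end Cfsg.Lib.GTwoCent
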