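import Cfsg.Agent.GTwoCent.Factor
import Mathlib.GroupTheory.Perm.Fin

/-!
# The solvable factor

When a closure is the quaternion group of order eight, the centraliser of the other closure in
the subgroup of index two is `SL(2, 3)`.
-/

set_option autoImplicit false
set_option linter.style.haveILetI false
set_option linter.unusedSectionVars false

namespace Cfsg.Lib.GTwoCent

open Subgroup
open Cfsg.Lib.GTwoType Cfsg.Lib.GTwoType.Mdl
open scoped commutatorElement

universe v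

/-- Representatives of the three classes of roots of `t`. -/
def rep : Fin 3 → Mdl (2 ^ 2) :=
  ![⟨1, 1, false, false⟩, g1 2, ⟨1, 1, false, false⟩ * g1 2]

theorem rep_mem (i : Fin 3) : rep i ∈ Q1 2 := by
  fin_cases i
  · exact diag_mem 1
  · exact g1_mem
  · exact mul_mem (diag_mem 1) g1_mem

theorem rep_sq : ∀ i : Fin 3, rep i * rep i = t 2 := by decide

theorem rep_inj : ∀ i j : Fin 3, rep i = rep j ∨ rep i = rep j * t 2 → i = j := by decide

theorem rep_cover_dec : ∀ (x : ZMod (2 ^ 2)) (s : Bool),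
    (⟨x + (if s then hf 2 else 0), x, s, s⟩ : Mdl (2 ^ 2)) = 1 ∨
    (⟨x + (if s then hf 2 else 0), x, s, s⟩ : Mdl (2 ^ 2)) = t 2 ∨
      ∃ i : Fin 3, (⟨x + (if s then hf 2 else 0), x, s, s⟩ : Mdl (2 ^ 2)) = rep i ∨
        (⟨x + (if s then hf 2 else 0), x, s, s⟩ : Mdl (2 ^ 2)) = rep i * t 2 := by decide

theorem rep_cover {p : Mdl (2 ^ 2)} (hp : p ∈ Q1 2) :
    p = 1 ∨ p = t 2 ∨ ∃ i : Fin 3, p = rep i ∨ p = rep i * t 2 := by
  obtain ⟨x, y, s, e⟩ := p
  obtain ⟨h, hg⟩ := hp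
  obtain rfl : s = e := h
  simp only at hg
  rw [hg]
  exact rep_cover_dec y s

theorem rep_conj_dec : ∀ k j : Fin 3,
    (rep k * rep j * (rep k)⁻¹ = rep j ∨ rep k * rep j * (rep k)⁻¹ = rep j * t 2) ∧
    (rep k * t 2 * rep j * (rep k * t 2)⁻¹ = rep j ∨ rep k * t 2 * rep j * (rep k * t 2)⁻¹ = rep j * t 2) := by
  decide

/-- The inner automorphisms fix the classes. -/
theorem rep_conj {p : Mdl (2 ^ 2)} (hp : p ∈ Q1 2) (j : Fin 3) :
    p * rep j * p⁻¹ = rep j ∨ p * rep j * p⁻¹ = rep j * t 2 := by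
  rcases rep_cover hp with rfl | rfl | ⟨k, rfl | rfl⟩
  · left; group
  · left; rw [← t_central (a := 2) (by norm_num) (rep j), mul_inv_cancel_right]
  · exact (rep_conj_dec k j).1
  · exact (rep_conj_dec k j).2

theorem rep_gen_dec : rep 0 * rep 1 = rep 2 := by decide

theorem jj_rep : jj 2 * rep 0 * (jj 2)⁻¹ = rep 0 * t 2 ∧
    (jj 2 * rep 1 * (jj 2)⁻¹ = rep 2 ∨ jj 2 * rep 1 * (jj 2)⁻¹ = rep 2 * t 2) := by decide

theorem signs_inner : ∀ e₁ e₂ : Bool, ∃ q : Fin 4,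
    let p : Mdl (2 ^ 2) := ![1, rep 0, rep 1, rep 2] q
    p * rep 0 * p⁻¹ = (if e₁ then rep 0 * t 2 else rep 0) ∧
      p * rep 1 * p⁻¹ = (if e₂ then rep 1 * t 2 else rep 1) := by decide

theorem perm_three_cycle : ∀ x y : Equiv.Perm (Fin 3), Equiv.Perm.sign x = 1 → x ≠ 1 →
    Equiv.Perm.sign y = 1 → y = 1 ∨ y = x ∨ y = x * x := by decide

theorem perm_odd : ∀ x : Equiv.Perm (Fin 3), x 0 = 0 → x ≠ 1 → Equiv.Perm.sign x = -1 := by decide

theorem perm_fix : ∀ x : Equiv.Perm (Fin 3), Equiv.Perm.sign x = 1 → x 0 = 0 → x = 1 := by decide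

theorem perm_comm : ∀ x y : Equiv.Perm (Fin 3), Equiv.Perm.sign x = 1 → x ≠ 1 →
    Equiv.Perm.sign y = -1 → y * x * y⁻¹ * x⁻¹ ≠ 1 := by decide

namespace Core

variable {H : Type v} [Group H] [Finite H] (c : Core H 2)

/-- The relation between the classes. -/
def Maps (h : H) (i j : Fin 3) : Prop :=
  h * c.ι (rep i) * h⁻¹ = c.ι (rep j) ∨ h * c.ι (rep i) * h⁻¹ = c.ι (rep j) * c.ι (t 2)

theorem maps_exists (hS : c.Solv) (h : H) (i : Fin 3) : ∃ j, c.Maps h i j := by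
  have hm : h * c.ι (rep i) * h⁻¹ ∈ c.lift := normalClosure_normal.conj_mem _ (c.mem_lift (rep_mem i)) h
  rw [hS.1] at hm
  obtain ⟨p, hp, he⟩ := hm
  have hne : ∀ {r : Mdl (2 ^ 2)}, p = r → r * r = 1 → False := by
    rintro r rfl h2
    refine t_ne_one c.ha (c.toTyped.ι_inj ?_)
    calc c.ι (t 2) = h⁻¹ * ((h * c.ι (rep i) * h⁻¹) * (h * c.ι (rep i) * h⁻¹)) * h := by
          rw [← rep_sq i, map_mul]; group
      _ = c.ι 1 := by rw [← he, ← map_mul, h2, map_one]; group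
  rcases rep_cover hp with e | e | ⟨j, e | e⟩
  · exact (hne e (one_mul 1)).elim
  · exact (hne e tt).elim
  · exact ⟨j, Or.inl (by rw [← he, e])⟩
  · exact ⟨j, Or.inr (by rw [← he, e, map_mul])⟩

theorem maps_unique {h : H} {i j k : Fin 3} (h1 : c.Maps h i j) (h2 : c.Maps h i k) : j = k := by
  refine rep_inj j k ?_
  rcases h1 with e | e <;> rcases h2 with e' | e' <;> have e'' := e.symm.trans e'
  · exact Or.inl (c.toTyped.ι_inj e'')
  · exact Or.inr (c.toTyped.ι_inj (e''.trans (map_mul _ _ _).symm))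
  · exact Or.inr (c.toTyped.ι_inj (by
      rw [map_mul, ← e'', mul_assoc, ← map_mul c.ι (t 2), tt, map_one, mul_one]))
  · exact Or.inl (c.toTyped.ι_inj (mul_right_cancel e''))

theorem maps_mul {g h : H} {i j k : Fin 3} (h1 : c.Maps h i j) (h2 : c.Maps g j k) : c.Maps (g * h) i k := by
  have hc : ∀ x, g * (x * c.ι (t 2)) * g⁻¹ = g * x * g⁻¹ * c.ι (t 2) := fun x => by
    rw [← mul_assoc g, mul_assoc (g * x), ← c.comm_t, ← mul_assoc]
  have e0 : g * h * c.ι (rep i) * (g * h)⁻¹ = g * (h * c.ι (rep i) * h⁻¹) * g⁻¹ := by group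
  have hTT : c.ι (t 2) * c.ι (t 2) = 1 := by rw [← map_mul, tt, map_one]
  rw [Maps, e0]
  rcases h1 with e | e <;> rw [e]
  · exact h2
  · rw [hc]
    rcases h2 with e' | e' <;> rw [e']
    · exact Or.inr rfl
    · exact Or.inl (by rw [mul_assoc, hTT, mul_one])

/-- The action on the three classes. -/
theorem exists_sigma (hS : c.Solv) :
    ∃ σ : H →* Equiv.Perm (Fin 3), ∀ h i j, σ h i = j ↔ c.Maps h i j := by
  choose f hf using c.maps_exists hS
  have hiff : ∀ h i j, f h i = j ↔ c.Maps h i j :=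
    fun h i j => ⟨fun e => e ▸ hf h i, fun e => c.maps_unique (hf h i) e⟩
  have hmul : ∀ g h i, f (g * h) i = f g (f h i) := fun g h i => (hiff _ _ _).2 (c.maps_mul (hf h i) (hf g _))
  have hone : ∀ i, f 1 i = i := fun i => (hiff _ _ _).2 (Or.inl (by simp))
  refine ⟨MonoidHom.mk' (fun h => ⟨f h, f h⁻¹, fun i => ?_, fun i => ?_⟩) fun g h => Equiv.ext fun i => ?_, hiff⟩
  · rw [← hmul, inv_mul_cancel, hone]
  · rw [← hmul, mul_inv_cancel, hone]
  · exact hmul g h i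

/-- An element acting trivially on the classes is inner on the quaternion group. -/
theorem inner_adjust (hS : c.Solv) {σ : H →* Equiv.Perm (Fin 3)} (hσ : ∀ h i j, σ h i = j ↔ c.Maps h i j)
    {h : H} (h1 : σ h = 1) : ∃ q ∈ Q1 2, h * (c.ι q)⁻¹ ∈ centralizer (c.lift : Set H) := by
  have hfix : ∀ i, c.Maps h i i := fun i => (hσ h i i).1 (by rw [h1]; rfl)
  obtain ⟨e₁, he₁⟩ : ∃ e : Bool, h * c.ι (rep 0) * h⁻¹ = c.ι (if e then rep 0 * t 2 else rep 0) := by
    rcases hfix 0 with e | e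
    exacts [⟨false, e⟩, ⟨true, e.trans (map_mul _ _ _).symm⟩]
  obtain ⟨e₂, he₂⟩ : ∃ e : Bool, h * c.ι (rep 1) * h⁻¹ = c.ι (if e then rep 1 * t 2 else rep 1) := by
    rcases hfix 1 with e | e
    exacts [⟨false, e⟩, ⟨true, e.trans (map_mul _ _ _).symm⟩]
  obtain ⟨q, hq0, hq1⟩ := signs_inner e₁ e₂
  set p : Mdl (2 ^ 2) := ![1, rep 0, rep 1, rep 2] q with hp
  have hpQ : p ∈ Q1 2 := by
    rw [hp]; fin_cases q
    exacts [one_mem _, rep_mem 0, rep_mem 1, rep_mem 2]
  refine ⟨p, hpQ, ?_⟩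
  set y := h * (c.ι p)⁻¹
  have hy : ∀ i : Fin 3, h * c.ι (rep i) * h⁻¹ = c.ι (p * rep i * p⁻¹) → c.ι (rep i) * y = y * c.ι (rep i) := by
    intro i e
    -- `y` fixes the representative
    have e' : y * c.ι (p * rep i * p⁻¹) * y⁻¹ = c.ι (p * rep i * p⁻¹) := by
      rw [← e]
      calc y * (h * c.ι (rep i) * h⁻¹) * y⁻¹ = y * c.ι (p * rep i * p⁻¹) * y⁻¹ := by rw [e]
        _ = h * c.ι (rep i) * h⁻¹ := by rw [map_mul, map_mul, map_inv]; simp only [y]; group
    have hor : p * rep i * p⁻¹ = rep i ∨ p * rep i * p⁻¹ = rep i * t 2 := by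
      rcases hfix i with e2 | e2
      · exact Or.inl (c.toTyped.ι_inj (e.symm.trans e2))
      · exact Or.inr (c.toTyped.ι_inj ((e.symm.trans e2).trans (map_mul _ _ _).symm))
    rcases hor with e2 | e2 <;> rw [e2] at e'
    · exact (mul_inv_eq_iff_eq_mul.1 e').symm
    · rw [map_mul, ← mul_assoc, mul_assoc (y * c.ι (rep i)) (c.ι (t 2)), ← c.comm_t, ← mul_assoc] at e'
      exact (mul_inv_eq_iff_eq_mul.1 (mul_right_cancel e')).symm
  have hA : c.ι (rep 0) * y = y * c.ι (rep 0) := hy 0 (by rw [he₁, hq0])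
  have hB : c.ι (rep 1) * y = y * c.ι (rep 1) := hy 1 (by rw [he₂, hq1])
  rw [hS.1]
  refine mem_centralizer_iff.2 ?_
  rintro _ ⟨r, hr, rfl⟩
  have hT : c.ι (t 2) * y = y * c.ι (t 2) := (c.comm_t y).symm
  have hC : c.ι (rep 2) * y = y * c.ι (rep 2) := by
    rw [← rep_gen_dec, map_mul, mul_assoc, hB, ← mul_assoc, hA, mul_assoc]
  rcases rep_cover hr with rfl | rfl | ⟨i, rfl | rfl⟩
  · simp
  · exact hT
  · fin_cases i
    exacts [hA, hB, hC]
  · have hi : c.ι (rep i) * y = y * c.ι (rep i) := by fin_cases i; exacts [hA, hB, hC]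
    rw [map_mul, mul_assoc, hT, ← mul_assoc, hi, mul_assoc]

theorem sign_K {σ : H →* Equiv.Perm (Fin 3)} (hσ : ∀ h i j, σ h i = j ↔ c.Maps h i j) {h : H} (hh : h ∈ c.K) :
    Equiv.Perm.sign (σ h) = 1 := by
  haveI : Fact (Nat.Prime 2) := ⟨Nat.prime_two⟩
  haveI := c.K_normal
  set χ : c.K →* ℤˣ := Equiv.Perm.sign.comp (σ.comp c.K.subtype) with hχ
  obtain ⟨W, hW⟩ := Cfsg.Lib.GWD.sylow_of_inter c.S c.K
  have hWker : (W : Subgroup c.K) ≤ χ.ker := by
    intro x hx
    have hm := hW.le (mem_map_of_mem c.K.subtype hx)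
    obtain ⟨q, hq⟩ := c.toTyped.exists_ι hm.1
    have hqM : q ∈ M0 (2 ^ 2) := (c.mem_K q).1 (by rw [hq]; exact hm.2)
    obtain ⟨p, hp, r, hr, rfl⟩ := decomp (a := 2) le_rfl hqM
    rw [MonoidHom.mem_ker]
    show Equiv.Perm.sign (σ (x : H)) = 1
    have : σ (x : H) = 1 := by
      rw [show (x : H) = c.ι (p * r) from hq.symm]
      refine Equiv.ext fun i => (hσ _ _ _).2 ?_
      rw [Equiv.Perm.one_apply, Maps, ← map_inv, ← map_mul, ← map_mul, ← map_mul]
      have e : p * r * rep i * (p * r)⁻¹ = p * rep i * p⁻¹ := by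
        rw [mul_assoc p r, ← comm_Q (rep_mem i) hr]; group
      rw [e]
      exact (rep_conj hp i).imp (congrArg c.ι) (congrArg c.ι)
    rw [this, map_one]
  have hdvd : χ.ker.index ∣ 2 := by
    rw [index_ker]
    have := χ.range.card_subgroup_dvd_card
    rwa [show Nat.card ℤˣ = 2 by simp] at this
  have hodd : ¬ 2 ∣ χ.ker.index := fun h2 => W.not_dvd_index (h2.trans (index_dvd_of_le hWker))
  rcases (Nat.dvd_prime Nat.prime_two).1 hdvd with e | e
  · exact MonoidHom.mem_ker.1 ((index_eq_one.1 e).ge (mem_top (⟨h, hh⟩ : c.K)))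
  · exact absurd (by rw [e]) hodd

theorem sigma_jj {σ : H →* Equiv.Perm (Fin 3)} (hσ : ∀ h i j, σ h i = j ↔ c.Maps h i j) :
    Equiv.Perm.sign (σ (c.ι (jj 2))) = -1 := by
  have hm : ∀ i j, (jj 2 * rep i * (jj 2)⁻¹ = rep j ∨ jj 2 * rep i * (jj 2)⁻¹ = rep j * t 2) →
      σ (c.ι (jj 2)) i = j := fun i j h => (hσ _ _ _).2 (by
    rw [Maps, ← map_inv, ← map_mul, ← map_mul, ← map_mul]
    exact h.imp (congrArg c.ι) (congrArg c.ι))
  refine perm_odd _ (hm 0 0 (Or.inr jj_rep.1)) fun e => ?_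
  have h1 := hm 1 2 jj_rep.2
  rw [e] at h1
  exact absurd (show (1 : Fin 3) = 2 from h1) (by decide)

/-- The solvable factor. -/
theorem side_solv (hS : c.Solv) : c.Side (c.K ⊓ centralizer (c.flip.lift : Set H)) := by
  classical
  haveI : Fact (Nat.Prime 2) := ⟨Nat.prime_two⟩
  haveI := c.K_normal
  haveI hcn : (centralizer (c.flip.lift : Set H)).Normal := normal_centralizer
  set L := c.K ⊓ centralizer (c.flip.lift : Set H) with hL
  haveI hLn : L.Normal := inferInstance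
  obtain ⟨σ, hσ⟩ := c.exists_sigma hS
  have hliftL : c.lift ≤ L := le_inf c.lift_le_K c.le_cent_flip
  have hinter : ∀ q, c.ι q ∈ L → q ∈ Q1 2 := fun q hq =>
    cent_Q2 le_rfl ((c.mem_K q).1 hq.1) fun r hr => c.toTyped.ι_inj (by
      rw [map_mul, map_mul]; exact (mem_centralizer_iff.1 hq.2 _ (c.mem_flip_lift hr)).symm)
  -- an element of the factor moving the classes
  obtain ⟨g, hgL, hg⟩ : ∃ g ∈ L, σ g ≠ 1 := by
    rcases c.flip.perf_or_solv with h2 | h2
    · obtain ⟨y, hy, hy2⟩ := exists_root2 (a := 2)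
      obtain ⟨h, hh, hmap, -⟩ := c.pair_fused (rep_mem 0) (rep_mem 1) hy hy (rep_sq 0) (rep_sq 1) hy2 hy2
      have hh1 : σ h ≠ 1 := fun e => by
        have := (hσ h 0 1).2 hmap
        rw [e] at this
        exact absurd (show (0 : Fin 3) = 1 from this) (by decide)
      obtain ⟨l, hl, hlc⟩ := (c.flip.perf_data h2).2.2 (c.ι (jj 2)) h
      refine ⟨⁅c.ι (jj 2), h⁆ * l⁻¹, mem_inf.2 ⟨mul_mem ?_ (inv_mem (c.flip.lift_le_K hl)), hlc⟩, ?_⟩
      · rw [commutatorElement_def]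
        exact mul_mem (c.K_normal.conj_mem _ hh _) (inv_mem hh)
      · have hσl : σ l = 1 := by
          refine Equiv.ext fun i => (hσ _ _ _).2 (Or.inl ?_)
          have := mem_centralizer_iff.1 (c.lift_commute hl) _ (c.mem_lift (rep_mem i))
          rw [Equiv.Perm.one_apply, ← this, mul_inv_cancel_right]
        rw [map_mul, map_inv, hσl, inv_one, mul_one, map_commutatorElement, commutatorElement_def]
        exact perm_comm _ _ (c.sign_K hσ hh) hh1 (c.sigma_jj hσ)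
    · obtain ⟨h, hh, hmap, hmap2⟩ := c.pair_fused (rep_mem 0) (rep_mem 1)
        (y := GTwoCent.flip _ (rep 0)) (y' := GTwoCent.flip _ (rep 0))
        (by rw [mem_Q2, flip_flip]; exact rep_mem 0) (by rw [mem_Q2, flip_flip]; exact rep_mem 0)
        (rep_sq 0) (rep_sq 1) (by rw [← map_mul, rep_sq, flip_t]) (by rw [← map_mul, rep_sq, flip_t])
      obtain ⟨σ', hσ'⟩ := c.flip.exists_sigma h2
      have h1' : σ' h = 1 := perm_fix _ (c.flip.sign_K hσ' hh) ((hσ' h 0 0).2 (by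
        rw [Maps, flip_ι, flip_ι, flip_t]; exact hmap2))
      obtain ⟨q, hq, hqc⟩ := c.flip.inner_adjust h2 hσ' h1'
      refine ⟨h * (c.flip.ι q)⁻¹, mem_inf.2 ⟨mul_mem hh (inv_mem ((c.flip.mem_K q).2 (Q1_le le_rfl hq))), hqc⟩, fun e => ?_⟩
      have hσq : σ (c.flip.ι q) = 1 := by
        refine Equiv.ext fun i => (hσ _ _ _).2 (Or.inl ?_)
        have hq2 : GTwoCent.flip _ q ∈ Q2 2 := by rw [mem_Q2, flip_flip]; exact hq
        rw [Equiv.Perm.one_apply, flip_ι, ← map_inv, ← map_mul, ← map_mul, ← comm_Q (rep_mem i) hq2,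
          mul_inv_cancel_right]
      rw [map_mul, map_inv, hσq, inv_one, mul_one] at e
      have := (hσ h 0 1).2 hmap
      rw [e] at this
      exact absurd (show (0 : Fin 3) = 1 from this) (by decide)
  have hgK : g ∈ c.K := hgL.1
  -- a root of `t` among the commutators with `g`
  obtain ⟨i, hi⟩ : ∃ i, σ g i ≠ i := by
    by_contra h
    push Not at h
    exact hg (Equiv.ext h)
  set q := c.ι (rep i)
  have hm := (hσ g i (σ g i)).1 rfl
  obtain ⟨p, hp, hpe⟩ : ∃ p ∈ Q1 2, c.ι p = g * q * g⁻¹ * q⁻¹ := by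
    rcases hm with e | e
    · exact ⟨rep (σ g i) * (rep i)⁻¹, mul_mem (rep_mem _) (inv_mem (rep_mem i)), by rw [e, map_mul, map_inv]⟩
    · exact ⟨rep (σ g i) * t 2 * (rep i)⁻¹, mul_mem (mul_mem (rep_mem _) (diag_mem _)) (inv_mem (rep_mem i)),
        by rw [e, map_mul, map_mul, map_inv]⟩
  have hp1 : p ≠ 1 ∧ p ≠ t 2 := by
    have hmaps : ∀ z, c.ι p = z → z * q = g * q * g⁻¹ := fun z hz => by rw [← hz, hpe, inv_mul_cancel_right]
    refine ⟨fun e => hi ?_, fun e => hi ?_⟩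
    · refine (hσ g i i).2 (Or.inl ?_)
      rw [← hmaps 1 (by rw [e, map_one]), one_mul]
    · refine (hσ g i i).2 (Or.inr ?_)
      rw [← hmaps _ (congrArg c.ι e), c.comm_t]
  have hp2 : p * p = t 2 := sq_two rfl hp hp1.1 hp1.2
  have hroot : ∀ {R : Subgroup H}, R.Normal → ⁅g, q⁆ ∈ R → c.lift ≤ R := fun hR hm =>
    c.lift_le_of_root hR hp hp2 (by rw [hpe, ← commutatorElement_def]; exact hm)
  -- the Sylow subgroup of the factor
  obtain ⟨W, hW⟩ := Cfsg.Lib.GWD.sylow_of_inter c.S L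
  have hW' : (W : Subgroup L).map L.subtype = c.lift := by
    rw [hW, hS.1]
    refine le_antisymm ?_ ?_
    · rintro x ⟨hxS, hx⟩
      obtain ⟨r, rfl⟩ := c.toTyped.exists_ι hxS
      exact ⟨r, hinter r hx, rfl⟩
    · rintro _ ⟨r, hr, rfl⟩
      exact ⟨c.toTyped.ι_mem r, hliftL (c.mem_lift hr)⟩
  have hWeq : (W : Subgroup L) = c.lift.subgroupOf L := by
    rw [← hW']; exact (comap_map_eq_self_of_injective L.subtype_injective _).symm
  haveI hWn : (W : Subgroup L).Normal := hWeq ▸ inferInstance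
  obtain ⟨eQ⟩ : Nonempty (↥(W : Subgroup L) ≃* QuaternionGroup (2 ^ (0 + 1))) := by
    obtain ⟨e⟩ := quat_iso (k := 0)
    exact ⟨((W : Subgroup L).equivMapOfInjective _ L.subtype_injective).trans ((MulEquiv.subgroupCongr
      (hW'.trans hS.1)).trans (((Q1 2).equivMapOfInjective c.ι c.toTyped.ι_inj).symm.trans e.symm))⟩
  have hWodd : Odd (W : Subgroup L).index := by
    rw [Nat.odd_iff, ← Nat.two_dvd_ne_zero]; exact W.not_dvd_index
  have hsolv : Group.IsSolvable ↥L := Cfsg.Lib.GenDihedral.solvable_ext (W : Subgroup L)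
    (by haveI := W.2.isNilpotent; infer_instance)
    (Cfsg.Agent.PF.isSolvable_of_odd _ (by rwa [← index_eq_card]))
  have hnoTwo : ∀ M : Subgroup L, M.index ≠ 2 := by
    intro M h2
    haveI : M.Normal := normal_of_index_eq_two h2
    have hc : Nat.card (↥L ⧸ M) = 2 := by rw [← index_eq_card, h2]
    haveI : IsCyclic (↥L ⧸ M) := isCyclic_of_prime_card hc
    letI : CommGroup (↥L ⧸ M) := IsCyclic.commGroup
    have hle := Abelianization.commutator_subset_ker (QuotientGroup.mk' M)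
    rw [QuotientGroup.ker_mk'] at hle
    have hd : c.lift ≤ ⁅L, L⁆ := hroot inferInstance (commutator_mem_commutator hgL (hliftL (c.mem_lift (rep_mem i))))
    have hWM : (W : Subgroup L) ≤ M := fun x hx => hle (by
      have h1 := hd (hW'.le (mem_map_of_mem L.subtype hx))
      have h3 : (commutator ↥L).map L.subtype = ⁅L, L⁆ := by
        rw [_root_.commutator_def, map_commutator, ← MonoidHom.range_eq_map, range_subtype]
      rw [← h3] at h1
      obtain ⟨y, hy, hyx⟩ := h1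
      rwa [L.subtype_injective hyx] at hy)
    have h' := index_dvd_of_le hWM
    rw [h2] at h'
    exact W.not_dvd_index h'
  obtain ⟨hcard, -, -, ⟨eS⟩⟩ := Cfsg.Lib.GWD.quaternion_kernel_solvable
    (Cfsg.Lib.GenDihedral.noOdd_sub c.noOdd L) hnoTwo W 0 eQ hsolv
  haveI : Fact (Nat.Prime 3) := ⟨Nat.prime_three⟩
  have hσlift : ∀ x ∈ c.lift, σ x = 1 := by
    rw [hS.1]
    rintro _ ⟨r, hr, rfl⟩
    refine Equiv.ext fun j => (hσ _ _ _).2 ?_
    rw [Equiv.Perm.one_apply, Maps, ← map_inv, ← map_mul, ← map_mul, ← map_mul]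
    exact (rep_conj hr j).imp (congrArg c.ι) (congrArg c.ι)
  refine ⟨hLn, inf_le_right, hliftL, hinter, ⟨ZMod 3, inferInstance, inferInstance, by simp; decide, ⟨eS⟩⟩, ?_,
    hnoTwo, ?_⟩
  · -- the factor is in the commutator subgroup
    set R := L ⊓ commutator H with hR
    have hc2 : ⁅c.ι (jj 2), g⁆ ∈ R :=
      mem_inf.2 ⟨by rw [commutatorElement_def]; exact mul_mem (hLn.conj_mem _ hgL _) (inv_mem hgL),
        commutator_mem_commutator (mem_top _) (mem_top _)⟩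
    have hlR : c.lift ≤ R := hroot inferInstance
      ⟨hliftL (by rw [commutatorElement_def, ← hpe]; exact c.mem_lift hp),
        commutator_mem_commutator (mem_top _) (mem_top _)⟩
    have hne : ⁅c.ι (jj 2), g⁆ ∉ c.lift := fun hmem => by
      have := hσlift _ hmem
      rw [map_commutatorElement, commutatorElement_def] at this
      exact perm_comm _ _ (c.sign_K hσ hgK) hg (c.sigma_jj hσ) this
    have h8 : Nat.card c.lift = 8 := by
      rw [hS.1, ← Nat.card_congr ((Q1 2).equivMapOfInjective c.ι c.toTyped.ι_inj).toEquiv, Q1_card le_rfl]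
      norm_num
    have h24 : Nat.card R = Nat.card L := by
      have d1 : 8 ∣ Nat.card R := h8 ▸ card_dvd_of_le hlR
      have d2 : Nat.card R ∣ 24 := hcard ▸ card_dvd_of_le inf_le_left
      have d3 : Nat.card R ≠ 8 := fun h => hne ((Subgroup.eq_of_le_of_card_ge hlR (by omega)).ge hc2)
      obtain ⟨m, hm⟩ := d1
      have hm3 : m ∣ 3 := Nat.dvd_of_mul_dvd_mul_left (by norm_num : 0 < 8) (hm ▸ d2)
      rcases (Nat.dvd_prime Nat.prime_three).1 hm3 with rfl | rfl <;> omega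
    exact (Subgroup.eq_of_le_of_card_ge (inf_le_left : R ≤ L) h24.ge).ge.trans inf_le_right
  · intro h k
    have hev : Equiv.Perm.sign (σ ⁅h, k⁆) = 1 := by
      rw [map_commutatorElement, map_commutatorElement, commutatorElement_eq_one_iff_mul_comm, mul_comm]
    obtain ⟨l0, hl0, hl0σ⟩ : ∃ l0 ∈ L, σ l0 = σ ⁅h, k⁆ := by
      rcases perm_three_cycle _ _ (c.sign_K hσ hgK) hg hev with e | e | e
      · exact ⟨1, one_mem _, by rw [map_one, e]⟩
      · exact ⟨g, hgL, e.symm⟩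
      · exact ⟨g * g, mul_mem hgL hgL, by rw [map_mul, e]⟩
    obtain ⟨r, hr, hrc⟩ := c.inner_adjust hS hσ (h := ⁅h, k⁆ * l0⁻¹)
      (by rw [map_mul, map_inv, hl0σ, mul_inv_cancel])
    refine ⟨c.ι r * l0, mul_mem (hliftL (c.mem_lift hr)) hl0, ?_⟩
    rwa [_root_.mul_inv_rev, ← mul_assoc]

end Core

end Cfsg.Lib.GTwoCent
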