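import Cfsg.Agent.GTwoCent.Setting
import Cfsg.Agent.TwoFusion.TwoDihedral.Main
import Cfsg.Agent.TwoFusion.Product.Split
import Cfsg.Agent.BenderSE.Ring2.CentralKernel

/-!
# The split of the inner part

In the quotient of the subgroup of index two by the central involution the two dihedral factors
are strongly closed, so the normal closure of a quaternion group meets the Sylow subgroup in it.
-/

set_option autoImplicit false
set_option linter.style.haveILetI false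
set_option linter.unusedSectionVars false

namespace Cfsg.Lib.GTwoCent

open Subgroup
open Cfsg.Lib.GTwoType Cfsg.Lib.GTwoType.Mdl

universe v

theorem quat_ker {m : ℕ} [NeZero m] (q : QuaternionGroup m) :
    Cfsg.Lib.GWD.quatToDihedral m q = 1 ↔ q * q = 1 := by
  rcases q with i | i
  · show DihedralGroup.r (ZMod.castHom (dvd_mul_left m 2) (ZMod m) i) = DihedralGroup.r 0 ↔
      QuaternionGroup.a (i + i) = QuaternionGroup.a 0
    rw [DihedralGroup.r.injEq, QuaternionGroup.a.injEq]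
    haveI : NeZero (2 * m) := ⟨Nat.mul_ne_zero two_ne_zero (NeZero.ne m)⟩
    obtain ⟨n, rfl⟩ := ZMod.natCast_zmod_surjective i
    rw [map_natCast, ← Nat.cast_add, ZMod.natCast_eq_zero_iff, ZMod.natCast_eq_zero_iff, ← two_mul]
    exact (Nat.mul_dvd_mul_iff_left two_pos).symm
  · show DihedralGroup.sr (ZMod.castHom (dvd_mul_left m 2) (ZMod m) i) = DihedralGroup.r 0 ↔
      QuaternionGroup.a ((m : ZMod (2 * m)) + i - i) = QuaternionGroup.a 0
    rw [QuaternionGroup.a.injEq, add_sub_cancel_right]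
    refine iff_of_false (fun h => by cases h) fun h => ?_
    rw [ZMod.natCast_eq_zero_iff] at h
    have := Nat.le_of_dvd (NeZero.pos m) h
    have := NeZero.pos m
    omega

/-- A dihedral group is contained in any subgroup containing its involutions. -/
theorem le_of_invol {X : Type*} [Group X] {A D : Subgroup X} {m : ℕ} (e : A ≃* DihedralGroup m)
    (h : ∀ s ∈ A, s * s = 1 → s ≠ 1 → s ∈ D) : A ≤ D := by
  intro x hx
  have hs : ∀ i : ZMod m, ((e.symm (.sr i) : A) : X) ∈ D := fun i => by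
    refine h _ (SetLike.coe_mem _) ?_ fun he => ?_
    · rw [← Subgroup.coe_mul, ← map_mul, DihedralGroup.sr_mul_self, map_one]; rfl
    · have h1 : e.symm (.sr i) = 1 := Subtype.ext he
      rw [← e.symm.map_one, e.symm.apply_eq_iff_eq, DihedralGroup.one_def] at h1
      cases h1
  obtain ⟨d, hd⟩ := e.symm.surjective ⟨x, hx⟩
  rw [show x = ((e.symm d : A) : X) from (congrArg Subtype.val hd).symm]
  rcases d with i | i
  · rw [show DihedralGroup.r i = DihedralGroup.sr 0 * DihedralGroup.sr i by simp, map_mul]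
    exact mul_mem (hs 0) (hs i)
  · exact hs i

/-- An element of the inner part with square `t` lies in one of the quaternion groups. -/
theorem pure_mem {a : ℕ} (ha : 2 ≤ a) {x : Mdl (2 ^ a)} (hx : x ∈ M0 (2 ^ a)) (h : x * x = t a) :
    x ∈ Q1 a ∨ x ∈ Q2 a := by
  obtain ⟨p, hp, q, hq, rfl⟩ := decomp ha hx
  have hsq : p * q * (p * q) = p * p * (q * q) := by
    rw [mul_assoc, ← mul_assoc q, ← comm_Q hp hq]; group
  rw [hsq] at h
  have htQ : t a ∈ Q1 a := diag_mem _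
  have htQ' : t a ∈ Q2 a := by rw [mem_Q2, flip_t]; exact htQ
  have hpp : p * p ∈ Q2 a := by
    rw [eq_mul_inv_of_mul_eq h]; exact mul_mem htQ' (inv_mem (mul_mem hq hq))
  rcases inter_Q (by omega) (mul_mem hp hp) hpp with e | e
  · rcases Q1_invol (by omega) hp e with rfl | rfl
    · rw [one_mul]; exact Or.inr hq
    · exact Or.inr (mul_mem htQ' hq)
  · rw [e] at h
    have e' : q * q = 1 := mul_left_cancel (h.trans (mul_one _).symm)
    rcases Q2_invol (by omega) hq e' with rfl | rfl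
    · rw [mul_one]; exact Or.inl hp
    · exact Or.inl (mul_mem hp htQ)

namespace Core

variable {H : Type v} [Group H] [Finite H] {a : ℕ} (c : Core H a)

/-- The centre inside the subgroup of index two. -/
def zK : Subgroup c.K := (zpowers (c.ι (t a))).subgroupOf c.K

theorem zK_center : c.zK ≤ center c.K := fun z hz => by
  obtain ⟨i, hi⟩ := mem_zpowers_iff.1 (mem_subgroupOf.1 hz)
  refine mem_center_iff.2 fun x => Subtype.ext ?_
  simp only [Subgroup.coe_mul]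
  rw [← hi]
  exact ((show Commute (x : H) (c.ι (t a)) from c.comm_t x).zpow_right i).eq

instance : c.zK.Normal :=
  ⟨fun z hz g => by rw [mem_center_iff.1 (c.zK_center hz) g, mul_inv_cancel_right]; exact hz⟩

theorem zpowers_t {x : H} : x ∈ zpowers (c.ι (t a)) ↔ x = 1 ∨ x = c.ι (t a) := by
  constructor
  · rintro ⟨i, rfl⟩
    have h2 : c.ι (t a) ^ (2 : ℤ) = 1 := by rw [zpow_two, ← map_mul, tt, map_one]
    rcases Int.even_or_odd i with ⟨j, rfl⟩ | ⟨j, rfl⟩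
    · left; show c.ι (t a) ^ (j + j) = 1
      rw [← two_mul, _root_.zpow_mul, h2, one_zpow]
    · right; show c.ι (t a) ^ (2 * j + 1) = _
      rw [zpow_add, _root_.zpow_mul, h2, one_zpow, one_mul, zpow_one]
  · rintro (rfl | rfl)
    · exact one_mem _
    · exact mem_zpowers _

/-- The quotient map on the inner part. -/
def bar : ↥(M0 (2 ^ a)) →* ↥c.K ⧸ c.zK :=
  (QuotientGroup.mk' c.zK).comp ((c.ι.comp (M0 (2 ^ a)).subtype).codRestrict c.K fun q => (c.mem_K q).2 q.2)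

theorem bar_eq_one {q : ↥(M0 (2 ^ a))} : c.bar q = 1 ↔ (q : Mdl (2 ^ a)) = 1 ∨ (q : Mdl (2 ^ a)) = t a := by
  refine (QuotientGroup.eq_one_iff _).trans (mem_subgroupOf.trans (c.zpowers_t.trans ?_))
  show c.ι q = 1 ∨ c.ι q = c.ι (t a) ↔ _
  rw [← map_one c.ι, c.toTyped.ι_inj.eq_iff, c.toTyped.ι_inj.eq_iff]

theorem bar_sylow : ∃ W : Sylow 2 (↥c.K ⧸ c.zK), (W : Subgroup (↥c.K ⧸ c.zK)) = c.bar.range := by
  haveI : Fact (Nat.Prime 2) := ⟨Nat.prime_two⟩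
  haveI := c.K_normal
  obtain ⟨V, hV⟩ := Cfsg.Lib.GWD.sylow_of_inter c.S c.K
  refine ⟨V.mapSurjective (QuotientGroup.mk'_surjective c.zK), ?_⟩
  have : (V : Subgroup c.K) =
      ((c.ι.comp (M0 (2 ^ a)).subtype).codRestrict c.K fun q => (c.mem_K q).2 q.2).range := by
    ext x
    constructor
    · intro hx
      have h := hV.le (mem_map_of_mem c.K.subtype hx)
      obtain ⟨q, hq⟩ := c.toTyped.exists_ι h.1
      exact ⟨⟨q, (c.mem_K q).1 (by rw [hq]; exact h.2)⟩, Subtype.ext hq⟩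
    · rintro ⟨q, rfl⟩
      obtain ⟨y, hy, hyq⟩ := hV.ge ⟨c.toTyped.ι_mem q, (c.mem_K q).2 q.2⟩
      have hy' : y = ((c.ι.comp (M0 (2 ^ a)).subtype).codRestrict c.K fun q => (c.mem_K q).2 q.2) q :=
        Subtype.ext hyq
      rwa [hy'] at hy
  rw [bar, MonoidHom.range_comp, ← this]
  rfl

theorem bar_noOdd : Cfsg.pPrimeCore 2 (↥c.K ⧸ c.zK) = ⊥ := by
  haveI : Fact (Nat.Prime 2) := ⟨Nat.prime_two⟩
  haveI := c.K_normal
  obtain ⟨V, hV⟩ := Cfsg.Lib.GWD.sylow_of_inter c.S c.K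
  refine Cfsg.Lib.BenderSE.Ring2.oddCore_quot_bot ?_ V c.zK (fun z hz => ?_) c.zK_center
  · exact Cfsg.Lib.GenDihedral.noOdd_sub c.noOdd c.K _ inferInstance
      (Nat.coprime_two_right.1 (Cfsg.Lib.Components.coprime_card_pPrimeCore 2))
  · have hT : (z : H) ∈ (c.S : Subgroup H) := zpowers_le.2 (c.toTyped.ι_mem _) hz
    obtain ⟨y, hy, hyz⟩ := hV.ge ⟨hT, z.2⟩
    rwa [show y = z from c.K.subtype_injective hyz] at hy

/-- The dihedral factors. -/
def D1 : Subgroup (↥c.K ⧸ c.zK) := ((Q1 a).subgroupOf (M0 (2 ^ a))).map c.bar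

/-- The second factor. -/
def D2 : Subgroup (↥c.K ⧸ c.zK) := ((Q2 a).subgroupOf (M0 (2 ^ a))).map c.bar

theorem D_inf : c.D1 ⊓ c.D2 = ⊥ := by
  rw [eq_bot_iff]
  rintro _ ⟨⟨p, hp, rfl⟩, ⟨q, hq, he⟩⟩
  rw [mem_bot]
  have h1 : c.bar (q⁻¹ * p) = 1 := by rw [map_mul, map_inv, he, inv_mul_cancel]
  refine c.bar_eq_one.2 (inter_Q c.ha hp ?_)
  have hq' : (q : Mdl (2 ^ a)) ∈ Q2 a := hq
  have : (q : Mdl (2 ^ a))⁻¹ * p ∈ Q2 a := by
    rcases c.bar_eq_one.1 h1 with e | e <;> simp only [Subgroup.coe_mul, Subgroup.coe_inv] at e <;> rw [e]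
    · exact one_mem _
    · rw [mem_Q2, flip_t]; exact diag_mem _
  simpa using mul_mem hq' this

theorem D_idp : Cfsg.IsInternalDirectProduct c.D1 c.D2 c.bar.range := by
  refine ⟨Subgroup.map_le_range _ _, Subgroup.map_le_range _ _, ?_, c.D_inf, ?_⟩
  · rintro _ ⟨p, hp, rfl⟩ _ ⟨q, hq, rfl⟩
    rw [← map_mul, ← map_mul]
    exact congrArg c.bar (Subtype.ext (comm_Q hp hq))
  · refine le_antisymm (sup_le (Subgroup.map_le_range _ _) (Subgroup.map_le_range _ _)) ?_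
    rintro _ ⟨g, rfl⟩
    obtain ⟨p, hp, q, hq, he⟩ := decomp c.two_le g.2
    rw [show g = ⟨p, Q1_le c.two_le hp⟩ * ⟨q, Q2_le c.two_le hq⟩ from Subtype.ext he, map_mul]
    exact mul_mem_sup (mem_map_of_mem _ hp) (mem_map_of_mem _ hq)

theorem D_dihedral {k : ℕ} (hk : a = k + 2) :
    Nonempty (c.D1 ≃* DihedralGroup (2 ^ (k + 1))) ∧ Nonempty (c.D2 ≃* DihedralGroup (2 ^ (k + 1))) := by
  subst hk
  obtain ⟨e⟩ := quat_iso (k := k)
  have key : ∀ (Q : Subgroup (Mdl (2 ^ (k + 2)))) (hQ : Q ≤ M0 (2 ^ (k + 2))),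
      (∀ p ∈ Q, p * p = 1 ↔ p = 1 ∨ p = t (k + 2)) → Nonempty (QuaternionGroup (2 ^ (k + 1)) ≃* Q) →
      Nonempty (↥((Q.subgroupOf (M0 (2 ^ (k + 2)))).map c.bar) ≃* DihedralGroup (2 ^ (k + 1))) := by
    intro Q hQ hinv ⟨f⟩
    let φ : QuaternionGroup (2 ^ (k + 1)) →* ↥c.K ⧸ c.zK :=
      c.bar.comp ((Subgroup.inclusion hQ).comp f.toMonoidHom)
    have hr : φ.range = (Q.subgroupOf (M0 (2 ^ (k + 2)))).map c.bar := by
      refine le_antisymm ?_ ?_
      · rintro _ ⟨q, rfl⟩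
        exact ⟨Subgroup.inclusion hQ (f q), (f q).2, rfl⟩
      · rintro _ ⟨p, hp, rfl⟩
        refine ⟨f.symm ⟨p, hp⟩, ?_⟩
        show c.bar (Subgroup.inclusion hQ (f (f.symm ⟨p, hp⟩))) = _
        rw [MulEquiv.apply_symm_apply]; rfl
    have hker : φ.ker = (Cfsg.Lib.GWD.quatToDihedral (2 ^ (k + 1))).ker := by
      ext q
      rw [MonoidHom.mem_ker, MonoidHom.mem_ker, quat_ker]
      refine (c.bar_eq_one (q := Subgroup.inclusion hQ (f q))).trans ?_
      refine Iff.trans (hinv _ (f q).2).symm ?_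
      show ((f q : Q) : Mdl (2 ^ (k + 2))) * (f q : Q) = 1 ↔ _
      rw [← Subgroup.coe_mul, ← map_mul, OneMemClass.coe_eq_one, map_eq_one_iff _ f.injective]
    exact ⟨(MulEquiv.subgroupCongr hr).symm.trans ((QuotientGroup.quotientKerEquivRange φ).symm.trans
      ((QuotientGroup.quotientMulEquivOfEq hker).trans
        (QuotientGroup.quotientKerEquivOfSurjective _ (Cfsg.Lib.GWD.quatToDihedral_surjective _))))⟩
  refine ⟨key _ (Q1_le c.two_le) (fun p hp => ⟨Q1_invol c.ha hp, ?_⟩) ⟨e⟩,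
    key _ (Q2_le c.two_le) (fun p hp => ⟨Q2_invol c.ha hp, ?_⟩) ⟨e.trans ?_⟩⟩
  · rintro (rfl | rfl)
    · exact one_mul 1
    · exact tt
  · rintro (rfl | rfl)
    · exact one_mul 1
    · exact tt
  · exact
      { toFun := fun p => ⟨GTwoCent.flip _ p, by rw [mem_Q2, flip_flip]; exact p.2⟩
        invFun := fun p => ⟨GTwoCent.flip _ p, p.2⟩
        left_inv := fun p => Subtype.ext (flip_flip _)
        right_inv := fun p => Subtype.ext (flip_flip _)
        map_mul' := fun p q => Subtype.ext (map_mul (GTwoCent.flip (2 ^ (k + 2))) (p : Mdl (2 ^ (k + 2))) q) }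

/-- The elements of the inner part with square `t` keep this property under fusion. -/
theorem square_fusion {g : ↥c.K ⧸ c.zK} {p q : ↥(M0 (2 ^ a))} (h : g * c.bar p * g⁻¹ = c.bar q)
    (hp : (p : Mdl (2 ^ a)) * p = t a) : (q : Mdl (2 ^ a)) * q = t a := by
  induction g using QuotientGroup.induction_on with
  | H g =>
    change QuotientGroup.mk' c.zK g * QuotientGroup.mk' c.zK _ * (QuotientGroup.mk' c.zK g)⁻¹ =
      QuotientGroup.mk' c.zK _ at h
    rw [← map_inv, ← map_mul, ← map_mul, QuotientGroup.mk'_apply, QuotientGroup.mk'_apply,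
      QuotientGroup.eq, zK, mem_subgroupOf, zpowers_t] at h
    change ((g : H) * c.ι p * (g : H)⁻¹)⁻¹ * c.ι q = 1 ∨ ((g : H) * c.ι p * (g : H)⁻¹)⁻¹ * c.ι q = c.ι (t a) at h
    have hg : (g : H) * c.ι (t a) * (g : H)⁻¹ = c.ι (t a) := by rw [c.comm_t, mul_inv_cancel_right]
    refine c.toTyped.ι_inj ?_
    rw [map_mul]
    set w := (g : H) * c.ι p * (g : H)⁻¹ with hw
    have hww : w * w = c.ι (t a) := by
      calc w * w = (g : H) * (c.ι p * c.ι p) * (g : H)⁻¹ := by rw [hw]; group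
        _ = c.ι (t a) := by rw [← map_mul, hp, hg]
    rcases h with e | e <;> rw [inv_mul_eq_iff_eq_mul] at e <;> rw [e]
    · rw [mul_one, hww]
    · rw [(show Commute (c.ι (t a)) w from (c.comm_t w).symm).mul_mul_mul_comm, hww, ← map_mul, tt, map_one,
        mul_one]

theorem pure_bar {p : ↥(M0 (2 ^ a))} (h : (p : Mdl (2 ^ a)) * p = t a) :
    c.bar p ∈ c.D1 ∨ c.bar p ∈ c.D2 :=
  (pure_mem c.two_le p.2 h).imp (mem_map_of_mem _) (mem_map_of_mem _)

/-- The product of non-trivial involutions from the two factors is mixed. -/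
theorem not_pure_mul {x y : ↥(M0 (2 ^ a))} (hx : c.bar x ∈ c.D1) (hx1 : c.bar x ≠ 1) (hy : c.bar y ∈ c.D2)
    (hy1 : c.bar y ≠ 1) {z : ↥(M0 (2 ^ a))} (hz : c.bar z = c.bar x * c.bar y) :
    (z : Mdl (2 ^ a)) * z ≠ t a := by
  intro h
  rcases c.pure_bar h with hm | hm
  · refine hy1 ((eq_bot_iff.1 c.D_inf) ⟨?_, hy⟩)
    have := mul_mem (inv_mem hx) hm
    rwa [hz, inv_mul_cancel_left] at this
  · refine hx1 ((eq_bot_iff.1 c.D_inf) ⟨hx, ?_⟩)
    have := mul_mem hm (inv_mem hy)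
    rwa [hz, mul_inv_cancel_right] at this

/-- An element with a square root property: a mixed involution or a pure one. -/
theorem invol_cases {p : ↥(M0 (2 ^ a))} (h : c.bar p * c.bar p = 1) :
    (p : Mdl (2 ^ a)) * p = 1 ∨ (p : Mdl (2 ^ a)) * p = t a := by
  rw [← map_mul, bar_eq_one] at h
  simpa using h

theorem fused_bar {p q : ↥(M0 (2 ^ a))} (hp : (p : Mdl (2 ^ a)) * p = 1) (hp1 : c.bar p ≠ 1)
    (hq : (q : Mdl (2 ^ a)) * q = 1) (hq1 : c.bar q ≠ 1) :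
    ∃ g, g * c.bar p * g⁻¹ = c.bar q := by
  rw [Ne, bar_eq_one, not_or] at hp1 hq1
  obtain ⟨g, hg, h⟩ := c.fused_pair hp hp1.1 hp1.2 p.2 hq hq1.1 hq1.2 q.2
  refine ⟨QuotientGroup.mk' c.zK ⟨g, hg⟩, ?_⟩
  show QuotientGroup.mk' c.zK _ * QuotientGroup.mk' c.zK _ * (QuotientGroup.mk' c.zK _)⁻¹ = QuotientGroup.mk' c.zK _
  rw [← map_inv, ← map_mul, ← map_mul]
  exact congrArg _ (Subtype.ext h)

/-- The products of pairs of mixed involutions generate. -/
theorem range_le_of_pairs {R : Subgroup (↥c.K ⧸ c.zK)}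
    (h : ∀ p q : ↥(M0 (2 ^ a)), (p : Mdl (2 ^ a)) * p = 1 → c.bar p ≠ 1 → (q : Mdl (2 ^ a)) * q = 1 →
      c.bar q ≠ 1 → c.bar p * c.bar q ∈ R) : c.bar.range ≤ R := by
  rintro _ ⟨g, rfl⟩
  have hle := pairs_gen c.two_le ((R.comap c.bar).map (M0 (2 ^ a)).subtype) fun p q hp hq hpM hqM hp1 hq1 hpt hqt =>
    ⟨⟨p, hpM⟩ * ⟨q, hqM⟩, by
      show c.bar _ ∈ R
      rw [map_mul]
      exact h _ _ hp (by rw [Ne, bar_eq_one]; exact fun e => e.elim hp1 hpt) hq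
        (by rw [Ne, bar_eq_one]; exact fun e => e.elim hq1 hqt), rfl⟩
  obtain ⟨g', hg', he⟩ := hle g.2
  rwa [show g' = g from Subtype.ext he] at hg'

theorem no_index_two : ∀ N : Subgroup (↥c.K ⧸ c.zK), N.Normal → N.index ≠ 2 := by
  intro N hN h2
  obtain ⟨W, hW⟩ := c.bar_sylow
  have hle : (W : Subgroup (↥c.K ⧸ c.zK)) ≤ N := hW.le.trans <| c.range_le_of_pairs fun p q hp hp1 hq hq1 => by
    obtain ⟨g, hg⟩ := c.fused_bar hp hp1 hq hq1
    rw [mul_mem_iff_of_index_two h2, ← hg]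
    exact ⟨fun h => hN.conj_mem _ h g, fun h => by
      have := hN.conj_mem _ h g⁻¹
      rwa [show g⁻¹ * (g * c.bar p * g⁻¹) * g⁻¹⁻¹ = c.bar p by group] at this⟩
  have := W.not_dvd_index
  have h' := Subgroup.index_dvd_of_le hle
  rw [h2] at h'
  exact this h'

/-- The factors are strongly closed. -/
theorem closed :
    Cfsg.IsStronglyClosed c.D1 c.bar.range ∧ Cfsg.IsStronglyClosed c.D2 c.bar.range := by
  haveI : Fact (Nat.Prime 2) := ⟨Nat.prime_two⟩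
  obtain ⟨k, hk⟩ : ∃ k, a = k + 2 := ⟨a - 2, by have := c.two_le; omega⟩
  obtain ⟨⟨e₁⟩, ⟨e₂⟩⟩ := c.D_dihedral hk
  obtain ⟨W, hW⟩ := c.bar_sylow
  have hidp := c.D_idp
  have hm : 2 ≤ 2 ^ (k + 1) := Nat.le_self_pow (Nat.succ_ne_zero k) 2
  have hne : ∀ {D : Subgroup (↥c.K ⧸ c.zK)}, Nonempty (D ≃* DihedralGroup (2 ^ (k + 1))) → D ≠ ⊥ := by
    rintro D ⟨e⟩ rfl
    have := Nat.card_congr e.toEquiv
    rw [card_bot, DihedralGroup.nat_card] at this
    omega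
  rcases Nat.eq_zero_or_pos k with rfl | hkpos
  · -- elementary abelian: fusion in the normaliser
    obtain rfl : a = 2 := hk
    have hD1 : ∀ x ∈ c.D1, x * x = 1 := fun x hx => by
      obtain ⟨p, hp, rfl⟩ := hx
      rw [← map_mul, bar_eq_one]
      by_cases h1 : (p : Mdl (2 ^ 2)) = 1 ∨ (p : Mdl (2 ^ 2)) = t 2
      · left; rcases h1 with e | e <;> rw [Subgroup.coe_mul, e] <;> first | exact one_mul 1 | exact tt
      · rw [not_or] at h1; right; simpa using sq_two rfl hp h1.1 h1.2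
    have hD2 : ∀ x ∈ c.D2, x * x = 1 := fun x hx => by
      obtain ⟨p, hp, rfl⟩ := hx
      rw [← map_mul, bar_eq_one]
      by_cases h1 : (p : Mdl (2 ^ 2)) = 1 ∨ (p : Mdl (2 ^ 2)) = t 2
      · left; rcases h1 with e | e <;> rw [Subgroup.coe_mul, e] <;> first | exact one_mul 1 | exact tt
      · rw [not_or] at h1; right
        have h := sq_two rfl (p := GTwoCent.flip (2 ^ 2) p) hp
          (fun e => h1.1 ((GTwoCent.flip (2 ^ 2)).injective (e.trans (map_one _).symm)))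
          (fun e => h1.2 ((GTwoCent.flip (2 ^ 2)).injective (e.trans flip_t.symm)))
        rw [← map_mul] at h
        simpa using (GTwoCent.flip (2 ^ 2)).injective (h.trans flip_t.symm)
    have hall : ∀ x ∈ c.bar.range, x * x = 1 := by
      rintro _ ⟨g, rfl⟩
      obtain ⟨p, hp, q, hq, he⟩ := decomp (a := 2) le_rfl g.2
      rw [show g = ⟨p, Q1_le le_rfl hp⟩ * ⟨q, Q2_le le_rfl hq⟩ from Subtype.ext he, map_mul]
      have hx : c.bar ⟨p, Q1_le le_rfl hp⟩ ∈ c.D1 := mem_map_of_mem _ hp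
      have hy : c.bar ⟨q, Q2_le le_rfl hq⟩ ∈ c.D2 := mem_map_of_mem _ hq
      rw [(show Commute _ _ from (hidp.2.2.1 _ hx _ hy).symm).mul_mul_mul_comm, hD1 _ hx, hD2 _ hy, mul_one]
    haveI : IsMulCommutative (W : Subgroup (↥c.K ⧸ c.zK)) := ⟨⟨fun x y => Subtype.ext (by
      have hx := x.2; have hy := y.2
      simp only [hW] at hx hy
      have e1 := inv_eq_of_mul_eq_one_left (hall _ hx)
      have e2 := inv_eq_of_mul_eq_one_left (hall _ hy)
      have e3 := inv_eq_of_mul_eq_one_left (hall _ (mul_mem hx hy))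
      rw [_root_.mul_inv_rev, e1, e2] at e3
      exact e3.symm)⟩⟩
    have hpure : ∀ x, x ∈ c.D1 ∨ x ∈ c.D2 → x ≠ 1 → ∃ p : ↥(M0 (2 ^ 2)), (p : Mdl (2 ^ 2)) * (p : Mdl (2 ^ 2)) = t 2 ∧ c.bar p = x := by
      rintro x (⟨p, hp, rfl⟩ | ⟨p, hp, rfl⟩) hx1 <;> rw [Ne, bar_eq_one, not_or] at hx1
      · exact ⟨p, sq_two rfl hp hx1.1 hx1.2, rfl⟩
      · have h := sq_two rfl (p := GTwoCent.flip (2 ^ 2) p) hp
          (fun e => hx1.1 ((GTwoCent.flip (2 ^ 2)).injective (e.trans (map_one _).symm)))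
          (fun e => hx1.2 ((GTwoCent.flip (2 ^ 2)).injective (e.trans flip_t.symm)))
        rw [← map_mul] at h
        exact ⟨p, (GTwoCent.flip (2 ^ 2)).injective (h.trans flip_t.symm), rfl⟩
    have hnorm : ∀ n ∈ normalizer ((W : Subgroup (↥c.K ⧸ c.zK)) : Set (↥c.K ⧸ c.zK)),
        ∀ x ∈ c.bar.range, n * x * n⁻¹ ∈ c.bar.range := fun n hn x hx => by
      rw [← hW] at hx ⊢; exact (mem_normalizer_iff.1 hn x).1 hx
    have himg : ∀ n ∈ normalizer ((W : Subgroup (↥c.K ⧸ c.zK)) : Set (↥c.K ⧸ c.zK)),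
        ∀ D, (D = c.D1 ∨ D = c.D2) →
          (∀ x ∈ D, n * x * n⁻¹ ∈ c.D1) ∨ (∀ x ∈ D, n * x * n⁻¹ ∈ c.D2) := by
      intro n hn D hD
      have hDW : D ≤ c.bar.range := by rcases hD with rfl | rfl; exacts [hidp.1, hidp.2.1]
      have hor : ∀ x ∈ D, n * x * n⁻¹ ∈ c.D1 ∨ n * x * n⁻¹ ∈ c.D2 := by
        intro x hx
        by_cases hx1 : x = 1
        · left; rw [hx1, mul_one, mul_inv_cancel]; exact one_mem _
        obtain ⟨p, hp, rfl⟩ := hpure x (by rcases hD with rfl | rfl; exacts [Or.inl hx, Or.inr hx]) hx1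
        obtain ⟨q, hq⟩ := hnorm n hn _ ⟨p, rfl⟩
        rw [← hq]
        exact c.pure_bar (c.square_fusion hq.symm hp)
      by_contra hcon
      push Not at hcon
      obtain ⟨⟨y, hy, hy1⟩, x, hx, hx2⟩ := hcon
      have hx1' := (hor x hx).resolve_right hx2
      have hy2 := (hor y hy).resolve_left hy1
      obtain ⟨p, hpe⟩ := hidp.1 hx1'
      obtain ⟨q, hqe⟩ := hidp.2.1 hy2
      obtain ⟨z, hze⟩ := hnorm n hn _ (hDW (mul_mem hx hy))
      have hxy : n * (x * y) * n⁻¹ = n * x * n⁻¹ * (n * y * n⁻¹) := by group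
      have hx0 : n * x * n⁻¹ ≠ 1 := fun e => hx2 (e ▸ one_mem _)
      have hy0 : n * y * n⁻¹ ≠ 1 := fun e => hy1 (e ▸ one_mem _)
      refine c.not_pure_mul (x := p) (y := q) (z := z) (hpe ▸ hx1') (hpe ▸ hx0) (hqe ▸ hy2) (hqe ▸ hy0)
        (by rw [hze, hpe, hqe, hxy]) ?_
      have hxy1 : x * y ≠ 1 := fun e => hx0 ((eq_bot_iff.1 c.D_inf) ⟨hx1', by
        rw [show n * x * n⁻¹ = (n * y * n⁻¹)⁻¹ by rw [eq_inv_of_mul_eq_one_left e]; group]
        exact c.D2.inv_mem hy2⟩)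
      obtain ⟨w, hw, hwe⟩ := hpure (x * y) (by rcases hD with rfl | rfl; exacts [Or.inl (mul_mem hx hy), Or.inr (mul_mem hx hy)]) hxy1
      exact c.square_fusion (g := n) (by rw [hwe, hze]) hw
    -- the normaliser fixes both factors
    have hfix : ∀ n ∈ normalizer ((W : Subgroup (↥c.K ⧸ c.zK)) : Set (↥c.K ⧸ c.zK)),
        (∀ x ∈ c.D1, n * x * n⁻¹ ∈ c.D1) ∧ (∀ x ∈ c.D2, n * x * n⁻¹ ∈ c.D2) := by
      have hsame : ∀ n ∈ normalizer ((W : Subgroup (↥c.K ⧸ c.zK)) : Set (↥c.K ⧸ c.zK)),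
          ∀ D, (∀ x ∈ c.D1, n * x * n⁻¹ ∈ D) → (∀ x ∈ c.D2, n * x * n⁻¹ ∈ D) → c.bar.range ≤ D := by
        intro n hn D h1 h2 x hx
        have hx' := hnorm n⁻¹ (inv_mem hn) x hx
        rw [← hidp.2.2.2.2] at hx'
        have : (c.D1 ⊔ c.D2) ≤ D.comap (MulAut.conj n).toMonoidHom := sup_le h1 h2
        have h := this hx'
        change n * (n⁻¹ * x * n⁻¹⁻¹) * n⁻¹ ∈ D at h
        rwa [show n * (n⁻¹ * x * n⁻¹⁻¹) * n⁻¹ = x by group] at h
      have hno1 : ¬ c.bar.range ≤ c.D1 := fun h => hne ⟨e₂⟩ (le_bot_iff.1 (c.D_inf ▸ le_inf (hidp.2.1.trans h) le_rfl))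
      have hno2 : ¬ c.bar.range ≤ c.D2 := fun h => hne ⟨e₁⟩ (le_bot_iff.1 (c.D_inf ▸ le_inf le_rfl (hidp.1.trans h)))
      intro n hn
      rcases himg n hn _ (Or.inl rfl) with h1 | h1
      · exact ⟨h1, (himg n hn _ (Or.inr rfl)).resolve_left fun h => hno1 (hsame n hn _ h1 h)⟩
      exfalso
      have h2 := (himg n hn _ (Or.inr rfl)).resolve_right fun h => hno2 (hsame n hn _ h1 h)
      have hswap : ∀ i : ℕ, (∀ x ∈ c.D1, n ^ (2 * i + 1) * x * (n ^ (2 * i + 1))⁻¹ ∈ c.D2) := by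
        intro i
        induction i with
        | zero => simpa using h1
        | succ i ih =>
          intro x hx
          rw [show 2 * (i + 1) + 1 = 1 + (1 + (2 * i + 1)) by ring, pow_add n 1, pow_add n 1, pow_one,
            show n * (n * n ^ (2 * i + 1)) * x * (n * (n * n ^ (2 * i + 1)))⁻¹ =
              n * (n * (n ^ (2 * i + 1) * x * (n ^ (2 * i + 1))⁻¹) * n⁻¹) * n⁻¹ by group]
          exact h1 _ (h2 _ (ih x hx))
      set N := normalizer ((W : Subgroup (↥c.K ⧸ c.zK)) : Set (↥c.K ⧸ c.zK))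
      obtain ⟨i, hi⟩ : Odd ((W : Subgroup (↥c.K ⧸ c.zK)).subgroupOf N).index := by
        rw [Nat.odd_iff, ← Nat.two_dvd_ne_zero]
        exact fun h => W.not_dvd_index (h.trans (Subgroup.relIndex_dvd_index_of_le le_normalizer))
      haveI : ((W : Subgroup (↥c.K ⧸ c.zK)).subgroupOf N).Normal := normal_in_normalizer
      have hm := ((W : Subgroup (↥c.K ⧸ c.zK)).subgroupOf N).pow_index_mem ⟨n, hn⟩
      rw [hi, mem_subgroupOf] at hm
      refine hne ⟨e₁⟩ (le_bot_iff.1 (c.D_inf ▸ le_inf le_rfl fun x hx => ?_))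
      have hxW : x ∈ (W : Subgroup (↥c.K ⧸ c.zK)) := hW.ge (hidp.1 hx)
      have hcm : n ^ (2 * i + 1) * x = x * n ^ (2 * i + 1) := congrArg Subtype.val
        (mul_comm' (⟨_, hm⟩ : ↥(W : Subgroup (↥c.K ⧸ c.zK))) ⟨x, hxW⟩)
      have := hswap i x hx
      rwa [hcm, mul_inv_cancel_right] at this
    constructor
    · refine ⟨hidp.1, fun x hx g hg => ?_⟩
      obtain ⟨n, hn, he⟩ := Sylow.conj_eq_normalizer_conj_of_mem W x g⁻¹ (hW.ge (hidp.1 hx))
        (by rw [inv_inv]; exact hW.ge hg)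
      rw [inv_inv] at he
      rw [he]
      simpa using (hfix n⁻¹ (inv_mem hn)).1 x hx
    · refine ⟨hidp.2.1, fun x hx g hg => ?_⟩
      obtain ⟨n, hn, he⟩ := Sylow.conj_eq_normalizer_conj_of_mem W x g⁻¹ (hW.ge (hidp.2.1 hx))
        (by rw [inv_inv]; exact hW.ge hg)
      rw [inv_inv] at he
      rw [he]
      simpa using (hfix n⁻¹ (inv_mem hn)).2 x hx
  -- non-abelian: the closed factors are the given ones
  have hidpW : Cfsg.IsInternalDirectProduct c.D1 c.D2 (W : Subgroup (↥c.K ⧸ c.zK)) := hW ▸ hidp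
  obtain ⟨d₁⟩ := Cfsg.Lib.TwoDihedral.nonempty_dih (W.2.to_le hidpW.1) hm e₁
  obtain ⟨d₂⟩ := Cfsg.Lib.TwoDihedral.nonempty_dih (W.2.to_le hidpW.2.1) hm e₂
  have hnab : ¬ IsMulCommutative (W : Subgroup (↥c.K ⧸ c.zK)) := by
    intro hcomm
    have h := congrArg e₁ (show e₁.symm (.r 1) * e₁.symm (.sr 0) = e₁.symm (.sr 0) * e₁.symm (.r 1) from
      Subtype.ext (by
        have hc := congrArg Subtype.val (hcomm.is_comm.comm
          (⟨_, hidpW.1 (e₁.symm (.r 1)).2⟩ : ↥(W : Subgroup (↥c.K ⧸ c.zK)))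
          ⟨_, hidpW.1 (e₁.symm (.sr 0)).2⟩)
        simpa using hc))
    simp only [map_mul, MulEquiv.apply_symm_apply, DihedralGroup.r_mul_sr, DihedralGroup.sr_mul_r,
      DihedralGroup.sr.injEq] at h
    have h2 : ((2 : ℕ) : ZMod (2 ^ (k + 1))) = 0 := by push_cast; linear_combination -h
    rw [ZMod.natCast_eq_zero_iff] at h2
    have := Nat.le_of_dvd two_pos h2
    have : 2 ^ 2 ≤ 2 ^ (k + 1) := Nat.pow_le_pow_right two_pos (by omega)
    omega
  obtain ⟨S₁, S₂, hS, ⟨i₁⟩, ⟨i₂⟩, hc₁, hc₂⟩ :=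
    Cfsg.Lib.TwoDihedral.exists_closed_factors hidpW d₁ d₂ c.no_index_two hnab
  rw [hW] at hS hc₁ hc₂
  have hSne : S₁ ≠ ⊥ ∧ S₂ ≠ ⊥ := ⟨hne ⟨i₁.symm.trans e₁⟩, hne ⟨i₂.symm.trans e₂⟩⟩
  -- a factor contains no mixed involution, so lies in one of the dihedral groups
  have hkey : ∀ {A B : Subgroup (↥c.K ⧸ c.zK)}, Cfsg.IsStronglyClosed A c.bar.range → B ≠ ⊥ →
      A ⊓ B = ⊥ → B ≤ c.bar.range → Nonempty (A ≃* DihedralGroup (2 ^ (k + 1))) → A ≤ c.D1 ∨ A ≤ c.D2 := by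
    intro A B hA hB hAB hBr ⟨f⟩
    have hmix : ∀ p : ↥(M0 (2 ^ a)), c.bar p ∈ A → c.bar p ≠ 1 → (p : Mdl (2 ^ a)) * p ≠ 1 := by
      intro p hp hp1 hpp
      have hle : c.bar.range ≤ A := c.range_le_of_pairs fun x y hx hx1 hy hy1 => by
        obtain ⟨g, hg⟩ := c.fused_bar hpp hp1 hx hx1
        obtain ⟨g', hg'⟩ := c.fused_bar hpp hp1 hy hy1
        exact mul_mem (hg ▸ hA.2 _ hp g (hg ▸ ⟨x, rfl⟩)) (hg' ▸ hA.2 _ hp g' (hg' ▸ ⟨y, rfl⟩))
      exact hB (le_bot_iff.1 (hAB ▸ le_inf (hBr.trans hle) le_rfl))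
    have hinv : ∀ s ∈ A, s * s = 1 → s ≠ 1 →
        ∃ p : ↥(M0 (2 ^ a)), (p : Mdl (2 ^ a)) * p = t a ∧ c.bar p = s := fun s hs hss hs1 => by
      obtain ⟨p, rfl⟩ := hA.1 hs
      exact ⟨p, (c.invol_cases hss).resolve_left (hmix p hs hs1), rfl⟩
    by_contra hcon
    push Not at hcon
    obtain ⟨x, hx, hxx, hx1, hxD⟩ : ∃ s ∈ A, s * s = 1 ∧ s ≠ 1 ∧ s ∉ c.D1 := by
      by_contra h; push Not at h; exact hcon.1 (le_of_invol f h)
    obtain ⟨y, hy, hyy, hy1, hyD⟩ : ∃ s ∈ A, s * s = 1 ∧ s ≠ 1 ∧ s ∉ c.D2 := by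
      by_contra h; push Not at h; exact hcon.2 (le_of_invol f h)
    obtain ⟨p, hp, hpx⟩ := hinv x hx hxx hx1
    obtain ⟨q, hq, hqy⟩ := hinv y hy hyy hy1
    have hpD : c.bar p ∈ c.D2 := (c.pure_bar hp).resolve_left (hpx ▸ hxD)
    have hqD : c.bar q ∈ c.D1 := (c.pure_bar hq).resolve_right (hqy ▸ hyD)
    have hxy : y * x = x * y := by rw [← hpx, ← hqy]; exact hidp.2.2.1 _ hqD _ hpD
    obtain ⟨z, hz⟩ := hA.1 (mul_mem hy hx)
    have hzz : c.bar z * c.bar z = 1 := by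
      rw [hz, (show Commute x y from hxy.symm).mul_mul_mul_comm, hyy, hxx, mul_one]
    have hz1 : c.bar z ≠ 1 := fun e => by
      rw [hz] at e
      refine hxD ?_
      rw [eq_inv_of_mul_eq_one_right e, ← hqy]; exact inv_mem hqD
    rcases c.invol_cases hzz with e | e
    · exact hmix z (hz ▸ mul_mem hy hx) hz1 e
    · exact c.not_pure_mul hqD (hqy ▸ hy1) hpD (hpx ▸ hx1) (by rw [hz, hpx, hqy]) e
  have hcard : Nat.card c.D1 = Nat.card S₁ ∧ Nat.card c.D2 = Nat.card S₂ ∧ Nat.card c.D1 = Nat.card c.D2 :=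
    ⟨Nat.card_congr i₁.toEquiv, Nat.card_congr i₂.toEquiv, Nat.card_congr (e₁.trans e₂.symm).toEquiv⟩
  have hA := hkey hc₁ hSne.2 hS.2.2.2.1 hS.2.1 ⟨i₁.symm.trans e₁⟩
  have hB := hkey hc₂ hSne.1 (by rw [inf_comm]; exact hS.2.2.2.1) hS.1 ⟨i₂.symm.trans e₂⟩
  have hboth : ∀ D, S₁ ≤ D → S₂ ≤ D → c.bar.range ≤ D := fun D h h' => hS.2.2.2.2 ▸ sup_le h h'
  rcases hA with hA | hA <;> rcases hB with hB | hB
  · exact (hne ⟨e₂⟩ (le_bot_iff.1 (c.D_inf ▸ le_inf (hidp.2.1.trans (hboth _ hA hB)) le_rfl))).elim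
  · rw [← Subgroup.eq_of_le_of_card_ge hA (by omega), ← Subgroup.eq_of_le_of_card_ge hB (by omega)]
    exact ⟨hc₁, hc₂⟩
  · rw [← Subgroup.eq_of_le_of_card_ge hA (by omega), ← Subgroup.eq_of_le_of_card_ge hB (by omega)]
    exact ⟨hc₂, hc₁⟩
  · exact (hne ⟨e₁⟩ (le_bot_iff.1 (c.D_inf ▸ le_inf le_rfl (hidp.1.trans (hboth _ hA hB))))).elim

/-- The normal closure of the first quaternion group. -/
def lift : Subgroup H := normalClosure (c.ι '' (Q1 a : Set (Mdl (2 ^ a))))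

instance : c.lift.Normal := normalClosure_normal

theorem lift_le_K : c.lift ≤ c.K := by
  haveI := c.K_normal
  refine normalClosure_le_normal ?_
  rintro _ ⟨q, hq, rfl⟩
  exact (c.mem_K q).2 (Q1_le c.two_le hq)

theorem mem_lift {q : Mdl (2 ^ a)} (hq : q ∈ Q1 a) : c.ι q ∈ c.lift := subset_normalClosure ⟨q, hq, rfl⟩

/-- It meets the Sylow subgroup in the quaternion group. -/
theorem lift_inter {q : Mdl (2 ^ a)} (hq : c.ι q ∈ c.lift) : q ∈ Q1 a := by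
  obtain ⟨W, hW⟩ := c.bar_sylow
  obtain ⟨h1, h2⟩ := c.closed
  have hidp := c.D_idp
  rw [← hW] at h1 h2 hidp
  set N := normalClosure (c.D1 : Set (↥c.K ⧸ c.zK)) with hN
  haveI : N.Normal := normalClosure_normal
  have hinf : N ⊓ (W : Subgroup (↥c.K ⧸ c.zK)) = c.D1 :=
    Cfsg.Lib.ProdFusion.normalClosure_inf_sylow c.bar_noOdd W h1 h2 hidp
  have hgen : ∀ g ∈ c.K, ∀ p ∈ Q1 a, g * c.ι p * g⁻¹ ∈ (N.comap (QuotientGroup.mk' c.zK)).map c.K.subtype := by
    intro g hg p hp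
    refine ⟨⟨g, hg⟩ * ⟨c.ι p, (c.mem_K p).2 (Q1_le c.two_le hp)⟩ * ⟨g, hg⟩⁻¹, ?_, rfl⟩
    rw [SetLike.mem_coe, mem_comap, map_mul, map_mul, map_inv]
    refine normalClosure_normal.conj_mem _ (subset_normalClosure ?_) _
    exact ⟨⟨p, Q1_le c.two_le hp⟩, hp, rfl⟩
  have hle : c.lift ≤ (N.comap (QuotientGroup.mk' c.zK)).map c.K.subtype := by
    refine (closure_le _).2 fun x hx => ?_
    obtain ⟨_, ⟨p, hp, rfl⟩, hc⟩ := Group.mem_conjugatesOfSet_iff.1 hx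
    obtain ⟨h, rfl⟩ := isConj_iff.1 hc
    haveI := c.K_normal
    rcases c.mem_or h with hh | hh
    · exact hgen h hh p hp
    · have hj : c.ι (jj a) * c.ι (jj a) = 1 := by rw [← map_mul, jj_sq, map_one]
      have e : h * c.ι p * h⁻¹ = (h * c.ι (jj a)) * c.ι (jj a * p * (jj a)⁻¹) * (h * c.ι (jj a))⁻¹ := by
        calc h * c.ι p * h⁻¹
            = (h * (c.ι (jj a) * c.ι (jj a))) * c.ι p * (h * (c.ι (jj a) * c.ι (jj a)))⁻¹ := by
              rw [hj, mul_one]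
          _ = _ := by rw [map_mul, map_mul, map_inv]; group
      rw [e]
      refine hgen _ ?_ _ (Q1_normal.conj_mem _ hp _)
      exact (Subgroup.Normal.mem_comm_iff c.K_normal).1 hh
  obtain ⟨x, hx, hxq⟩ := hle hq
  have hqM : q ∈ M0 (2 ^ a) := (c.mem_K q).1 (hxq ▸ x.2)
  have hxe : QuotientGroup.mk' c.zK x = c.bar ⟨q, hqM⟩ := congrArg _ (Subtype.ext hxq)
  have : c.bar ⟨q, hqM⟩ ∈ c.D1 := hinf ▸ ⟨hxe ▸ hx, hW ▸ ⟨_, rfl⟩⟩
  obtain ⟨p, hp, hpe⟩ := this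
  have hz : c.bar (p⁻¹ * ⟨q, hqM⟩) = 1 := by rw [map_mul, map_inv, hpe, inv_mul_cancel]
  have hq' : (p : Mdl (2 ^ a))⁻¹ * q ∈ Q1 a := by
    rcases c.bar_eq_one.1 hz with e | e <;> simp only [Subgroup.coe_mul, Subgroup.coe_inv] at e <;> rw [e]
    · exact one_mem _
    · exact diag_mem _
  simpa using mul_mem (show (p : Mdl (2 ^ a)) ∈ Q1 a from hp) hq'

theorem flip_lift_inter {q : Mdl (2 ^ a)} (hq : c.ι q ∈ c.flip.lift) : q ∈ Q2 a :=
  c.flip.lift_inter (q := GTwoCent.flip (2 ^ a) q) (by rwa [flip_ι, flip_flip])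

theorem mem_flip_lift {q : Mdl (2 ^ a)} (hq : q ∈ Q2 a) : c.ι q ∈ c.flip.lift := by
  have := c.flip.mem_lift (q := GTwoCent.flip (2 ^ a) q) hq
  rwa [flip_ι, flip_flip] at this

/-- The two closures meet in the centre. -/
theorem lift_inf_le : c.lift ⊓ c.flip.lift ≤ zpowers (c.ι (t a)) :=
  c.le_center_of_inter (hR := inferInstance) fun q hq =>
    inter_Q c.ha (c.lift_inter hq.1) (c.flip_lift_inter hq.2)

end Core

end Cfsg.Lib.GTwoCent
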